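import Mathlib
import Cfsg.Agent.Lib.Helper20.OneBlockCount

/-!
# A parity reduction for the one-block criterion (helper24)

`N(g) = #{x : x a 2-element, x⁻¹ g of odd order}`.  If `Ω` is a finite `G`-set of odd cardinality, every
2-element fixes an odd number of points of `Ω`, so `N(g)` has the parity of the number of pairs
`(x, ω)` with `x` counted in `N(g)` and `x ω = ω`.  An involution `c` commuting with `g` acts on these
pairs, so only the pairs fixed by `c` matter.
-/

set_option autoImplicit false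
set_option linter.unusedSectionVars false
set_option linter.unusedVariables false

namespace Cfsg.Agent.Lib.Helper24.M24Blk

open Cfsg.Agent.Lib.Helper20.OneBlock MulAction

variable {G : Type*} [Group G] [Finite G]

/-- a 2-element fixes an odd number of points of a finite set of odd cardinality -/
theorem odd_card_fixed {Ω : Type*} [MulAction G Ω] [Finite Ω] (hodd : Odd (Nat.card Ω)) (x : G)
    (hx : ∃ k : ℕ, orderOf x = 2 ^ k) : Odd (Nat.card {ω : Ω // x • ω = ω}) := by
  obtain ⟨k, hk⟩ := hx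
  haveI : Fact (Nat.Prime 2) := ⟨Nat.prime_two⟩
  have hT : IsPGroup 2 (Subgroup.zpowers x) :=
    IsPGroup.of_card (n := k) (by rw [Nat.card_zpowers, hk])
  have h1 := hT.card_modEq_card_fixedPoints Ω
  have h2 : Nat.card (fixedPoints (Subgroup.zpowers x) Ω) = Nat.card {ω : Ω // x • ω = ω} := by
    apply Nat.card_congr
    apply Equiv.subtypeEquivRight
    intro ω
    rw [mem_fixedPoints]
    constructor
    · intro h
      exact h ⟨x, Subgroup.mem_zpowers x⟩
    · intro h y
      obtain ⟨y, hy⟩ := y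
      obtain ⟨m, rfl⟩ := Subgroup.mem_zpowers_iff.mp hy
      show (x ^ m) • ω = ω
      exact zpow_smul_eq_iff_period_dvd.mpr (by
        have : x • ω = ω := h
        rw [← MulAction.period_eq_one_iff] at this
        rw [this]; exact one_dvd _)
  rw [← h2]
  rw [Nat.odd_iff] at hodd ⊢
  rw [← hodd]
  exact h1.symm


/-- the parity of the number of pairs `(x, ω)`, `x` good, `x ω = ω` -/
theorem card_pairs_modEq {Ω : Type*} [MulAction G Ω] [Finite Ω] (hodd : Odd (Nat.card Ω)) (g : G) :
    Nat.card {p : G × Ω // Good 2 g p.1 ∧ p.1 • p.2 = p.2} ≡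
      Nat.card {x : G // Good 2 g x} [MOD 2] := by
  classical
  haveI : Fintype G := Fintype.ofFinite G
  have e : {p : G × Ω // Good 2 g p.1 ∧ p.1 • p.2 = p.2} ≃
      Σ x : {x : G // Good 2 g x}, {ω : Ω // x.1 • ω = ω} :=
    { toFun := fun p => ⟨⟨p.1.1, p.2.1⟩, ⟨p.1.2, p.2.2⟩⟩
      invFun := fun q => ⟨(q.1.1, q.2.1), q.1.2, q.2.2⟩
      left_inv := fun p => rfl
      right_inv := fun q => rfl }
  rw [Nat.card_congr e, Nat.card_sigma]
  have h1 : ∀ x : {x : G // Good 2 g x}, Nat.card {ω : Ω // x.1 • ω = ω} % 2 = 1 := fun x =>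
    Nat.odd_iff.mp (odd_card_fixed hodd x.1 x.2.1)
  show (∑ x : {x : G // Good 2 g x}, Nat.card {ω : Ω // x.1 • ω = ω}) % 2 = _ % 2
  rw [Finset.sum_nat_mod]
  simp only [h1]
  simp [Nat.card_eq_fintype_card]

/-- conjugation by an element commuting with `g` preserves the counting predicate -/
theorem good_conj_of_commute (g c x : G) (hcg : c * g = g * c) (hx : Good 2 g x) :
    Good 2 g (c * x * c⁻¹) := by
  have h := (good_conj_iff 2 g c⁻¹ x).mp
  rw [inv_inv] at h
  apply h
  have : c⁻¹ * g * c = g := by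
    calc c⁻¹ * g * c = c⁻¹ * (g * c) := by group
      _ = c⁻¹ * (c * g) := by rw [hcg]
      _ = g := by group
  rw [this]; exact hx

/-- only the pairs fixed by an involution commuting with `g` matter -/
theorem card_pairs_fixed_modEq {Ω : Type*} [MulAction G Ω] [Finite Ω] (g c : G)
    (hc2 : c * c = 1) (hcg : c * g = g * c) :
    Nat.card {p : G × Ω // Good 2 g p.1 ∧ p.1 • p.2 = p.2} ≡
      Nat.card {p : G × Ω // Good 2 g p.1 ∧ p.1 • p.2 = p.2 ∧ c * p.1 = p.1 * c ∧ c • p.2 = p.2}
        [MOD 2] := by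
  classical
  haveI : Fintype G := Fintype.ofFinite G
  haveI : Fintype Ω := Fintype.ofFinite Ω
  haveI : Fact (Nat.Prime 2) := ⟨Nat.prime_two⟩
  have hci : c⁻¹ = c := inv_eq_of_mul_eq_one_left hc2
  set X := {p : G × Ω // Good 2 g p.1 ∧ p.1 • p.2 = p.2} with hX
  let ι : Function.End X := fun p =>
    ⟨(c * p.1.1 * c⁻¹, c • p.1.2), good_conj_of_commute g c p.1.1 hcg p.2.1, by
      show (c * p.1.1 * c⁻¹) • c • p.1.2 = c • p.1.2
      rw [smul_smul, inv_mul_cancel_right, ← smul_smul, p.2.2]⟩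
  have hι : ι ^ 2 ^ 1 = 1 := by
    rw [pow_one, pow_two]
    funext p
    apply Subtype.ext
    show (c * (c * p.1.1 * c⁻¹) * c⁻¹, c • c • p.1.2) = p.1
    rw [smul_smul, hc2, one_smul, hci]
    have : c * (c * p.1.1 * c) * c = (c * c) * p.1.1 * (c * c) := by group
    rw [this, hc2, one_mul, mul_one]
  have h := Equiv.Perm.card_fixedPoints_modEq (p := 2) (n := 1) hι
  rw [Nat.card_eq_fintype_card]
  refine h.trans ?_
  rw [← Nat.card_eq_fintype_card]
  apply congrArg (· % 2)
  apply Nat.card_congr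
  refine
    { toFun := fun q => ⟨q.1.1, q.1.2.1, q.1.2.2, ?_, ?_⟩
      invFun := fun q => ⟨⟨q.1, q.2.1, q.2.2.1⟩, ?_⟩
      left_inv := fun q => rfl
      right_inv := fun q => rfl }
  · have h1 := congrArg (fun z : X => z.1.1) q.2
    simp only [ι] at h1
    have h2 : c * q.1.1.1 * c⁻¹ = q.1.1.1 := h1
    calc c * q.1.1.1 = (c * q.1.1.1 * c⁻¹) * c := by group
      _ = q.1.1.1 * c := by rw [h2]
  · have h1 := congrArg (fun z : X => z.1.2) q.2
    exact h1
  · show ι _ = _
    apply Subtype.ext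
    show (c * q.1.1 * c⁻¹, c • q.1.2) = q.1
    rw [q.2.2.2.2]
    have : c * q.1.1 * c⁻¹ = q.1.1 := by rw [q.2.2.2.1]; group
    rw [this]

end Cfsg.Agent.Lib.Helper24.M24Blk
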