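import Mathlib
import Cfsg.Agent.Lib.Helper24.M24Blk.Parity

/-!
# The parity of the one-block count through the cosets of a subgroup of odd index (helper24)

For a subgroup `H` of odd index, `N(g) = #{x : x a 2-element, x⁻¹ g of odd order}` has the parity of
`Σ_{tH} #{y ∈ H : y a 2-element, y⁻¹ (t⁻¹ g t) of odd order, y commutes with t⁻¹ c t}` over the cosets
`tH` fixed by an involution `c` commuting with `g`; the terms are constant on the orbits of `⟨g⟩`.
-/

set_option autoImplicit false
set_option linter.unusedSectionVars false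
set_option linter.unusedVariables false

namespace Cfsg.Agent.Lib.Helper24.M24Blk

open Cfsg.Agent.Lib.Helper20.OneBlock MulAction
open scoped Classical

variable {G : Type*} [Group G] [Finite G]

/-- the coset of an element -/
abbrev cosetOf (H : Subgroup G) (t : G) : G ⧸ H := QuotientGroup.mk t

/-- the number of good `x` fixing the point `ω`, commuting with `c`, when `c` fixes `ω` -/
noncomputable def fiberCnt {Ω : Type*} [MulAction G Ω] (g c : G) (ω : Ω) : ℕ :=
  Nat.card {x : G // Good 2 g x ∧ x • ω = ω ∧ c * x = x * c ∧ c • ω = ω}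

/-- the local count in the subgroup `H` -/
noncomputable def locCnt (H : Subgroup G) (γ κ : G) : ℕ :=
  Nat.card {y : H // Good 2 γ (y : G) ∧ κ * (y : G) = (y : G) * κ}

theorem card_fixed_pairs_eq_sum {Ω : Type*} [MulAction G Ω] [Fintype Ω] (g c : G) :
    Nat.card {p : G × Ω // Good 2 g p.1 ∧ p.1 • p.2 = p.2 ∧ c * p.1 = p.1 * c ∧ c • p.2 = p.2} =
      ∑ ω : Ω, fiberCnt g c ω := by
  classical
  have e : {p : G × Ω // Good 2 g p.1 ∧ p.1 • p.2 = p.2 ∧ c * p.1 = p.1 * c ∧ c • p.2 = p.2} ≃
      Σ ω : Ω, {x : G // Good 2 g x ∧ x • ω = ω ∧ c * x = x * c ∧ c • ω = ω} :=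
    { toFun := fun p => ⟨p.1.2, ⟨p.1.1, p.2⟩⟩
      invFun := fun q => ⟨(q.2.1, q.1), q.2.2⟩
      left_inv := fun p => rfl
      right_inv := fun q => rfl }
  rw [Nat.card_congr e, Nat.card_sigma]
  rfl

theorem orderOf_conj_inv (t x : G) : orderOf (t⁻¹ * x * t) = orderOf x := by
  have h := orderOf_conj_eq t⁻¹ x
  rwa [inv_inv] at h

theorem good_conj_inv_iff (g t x : G) : Good 2 (t⁻¹ * g * t) (t⁻¹ * x * t) ↔ Good 2 g x := by
  unfold Good
  rw [orderOf_conj_inv]
  have h : (t⁻¹ * x * t)⁻¹ * (t⁻¹ * g * t) = t⁻¹ * (x⁻¹ * g) * t := by group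
  rw [h, orderOf_conj_inv]

theorem smul_coset_eq_iff (H : Subgroup G) (x t : G) :
    x • (t : G ⧸ H) = (t : G ⧸ H) ↔ t⁻¹ * x * t ∈ H := by
  rw [MulAction.Quotient.smul_mk, QuotientGroup.eq, smul_eq_mul]
  have h : (x * t)⁻¹ * t = (t⁻¹ * x * t)⁻¹ := by group
  rw [h, inv_mem_iff]

/-- the fibre over the coset `tH` -/
theorem fiberCnt_coset (H : Subgroup G) (g c t : G) :
    fiberCnt g c (t : G ⧸ H) =
      if t⁻¹ * c * t ∈ H then locCnt H (t⁻¹ * g * t) (t⁻¹ * c * t) else 0 := by
  unfold fiberCnt locCnt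
  split_ifs with hc
  · apply Nat.card_congr
    refine
      { toFun := fun x => ⟨⟨t⁻¹ * x.1 * t, (smul_coset_eq_iff H x.1 t).mp x.2.2.1⟩, ?_, ?_⟩
        invFun := fun y => ⟨t * y.1.1 * t⁻¹, ?_, ?_, ?_, ?_⟩
        left_inv := fun x => by
          apply Subtype.ext
          show t * (t⁻¹ * x.1 * t) * t⁻¹ = x.1
          group
        right_inv := fun y => by
          apply Subtype.ext
          apply Subtype.ext
          show t⁻¹ * (t * y.1.1 * t⁻¹) * t = y.1.1
          group }
    · exact (good_conj_inv_iff g t x.1).mpr x.2.1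
    · show t⁻¹ * c * t * (t⁻¹ * x.1 * t) = t⁻¹ * x.1 * t * (t⁻¹ * c * t)
      have h := x.2.2.2.1
      calc t⁻¹ * c * t * (t⁻¹ * x.1 * t) = t⁻¹ * (c * x.1) * t := by group
        _ = t⁻¹ * (x.1 * c) * t := by rw [h]
        _ = t⁻¹ * x.1 * t * (t⁻¹ * c * t) := by group
    · have h := (good_conj_inv_iff g t (t * y.1.1 * t⁻¹)).mp
      apply h
      have h2 : t⁻¹ * (t * y.1.1 * t⁻¹) * t = y.1.1 := by group
      rw [h2]
      exact y.2.1
    · rw [smul_coset_eq_iff]
      have h2 : t⁻¹ * (t * y.1.1 * t⁻¹) * t = y.1.1 := by group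
      rw [h2]
      exact y.1.2
    · have h := y.2.2
      calc c * (t * y.1.1 * t⁻¹) = t * ((t⁻¹ * c * t) * y.1.1) * t⁻¹ := by group
        _ = t * (y.1.1 * (t⁻¹ * c * t)) * t⁻¹ := by rw [h]
        _ = t * y.1.1 * t⁻¹ * c := by group
    · rw [smul_coset_eq_iff]
      exact hc
  · rw [Nat.card_eq_zero]
    left
    constructor
    rintro ⟨x, _, _, _, h⟩
    exact hc ((smul_coset_eq_iff H c t).mp h)

/-- the fibre count is constant on the orbits of `⟨g⟩` -/
theorem fiberCnt_pow_mul (H : Subgroup G) (g c t : G) (hcg : c * g = g * c) (i : ℕ) :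
    fiberCnt g c ((g ^ i * t : G) : G ⧸ H) = fiberCnt g c (t : G ⧸ H) := by
  rw [fiberCnt_coset, fiberCnt_coset]
  have hc : Commute c (g ^ i) := (show Commute c g from hcg).pow_right i
  have h1 : (g ^ i * t)⁻¹ * c * (g ^ i * t) = t⁻¹ * c * t := by
    calc (g ^ i * t)⁻¹ * c * (g ^ i * t) = t⁻¹ * ((g ^ i)⁻¹ * (c * g ^ i)) * t := by group
      _ = t⁻¹ * ((g ^ i)⁻¹ * (g ^ i * c)) * t := by rw [hc.eq]
      _ = t⁻¹ * c * t := by group
  have hg : Commute g (g ^ i) := (Commute.refl g).pow_right i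
  have h2 : (g ^ i * t)⁻¹ * g * (g ^ i * t) = t⁻¹ * g * t := by
    calc (g ^ i * t)⁻¹ * g * (g ^ i * t) = t⁻¹ * ((g ^ i)⁻¹ * (g * g ^ i)) * t := by group
      _ = t⁻¹ * ((g ^ i)⁻¹ * (g ^ i * g)) * t := by rw [hg.eq]
      _ = t⁻¹ * g * t := by group
  rw [h1, h2]

/-- a sum over the cosets through an exhaustive list of representatives -/
theorem sum_cosets_eq_list (H : Subgroup G) (f : G ⧸ H → ℕ) [Fintype (G ⧸ H)] (L : List G)
    (hnd : (L.map (cosetOf H)).Nodup) (hlen : L.length = H.index) :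
    ∑ ω : G ⧸ H, f ω = (L.map fun t => f (cosetOf H t)).sum := by
  have hcard : (L.map (cosetOf H)).toFinset.card = Fintype.card (G ⧸ H) := by
    rw [List.toFinset_card_of_nodup hnd, List.length_map, hlen, Subgroup.index,
      Nat.card_eq_fintype_card]
  have huniv : (L.map (cosetOf H)).toFinset = Finset.univ :=
    Finset.eq_univ_of_card _ hcard
  rw [← huniv, List.sum_toFinset f hnd, List.map_map]
  rfl

/-- the parity of the one-block count through orbit representatives on the cosets -/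
theorem card_good_modEq_list (H : Subgroup G) (hodd : Odd H.index) (g c : G) (hc2 : c * c = 1)
    (hcg : c * g = g * c) (L : List (G × ℕ))
    (hnd : (L.flatMap fun r => (List.range r.2).map fun i => cosetOf H (g ^ i * r.1)).Nodup)
    (hlen : (L.map Prod.snd).sum = H.index) :
    Nat.card {x : G // Good 2 g x} ≡
      (L.map fun r => r.2 * (if r.1⁻¹ * c * r.1 ∈ H then
        locCnt H (r.1⁻¹ * g * r.1) (r.1⁻¹ * c * r.1) else 0)).sum [MOD 2] := by
  haveI : Fintype (G ⧸ H) := Fintype.ofFinite _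
  have hoddΩ : Odd (Nat.card (G ⧸ H)) := hodd
  have h1 := (card_pairs_modEq (Ω := G ⧸ H) hoddΩ g).symm
  have h2 := card_pairs_fixed_modEq (Ω := G ⧸ H) g c hc2 hcg
  refine h1.trans (h2.trans ?_)
  rw [card_fixed_pairs_eq_sum]
  set LL : List G := L.flatMap fun r => (List.range r.2).map fun i => g ^ i * r.1 with hLL
  have hmap : LL.map (cosetOf H) =
      L.flatMap fun r => (List.range r.2).map fun i => cosetOf H (g ^ i * r.1) := by
    rw [hLL, List.map_flatMap]
    congr 1
    funext r
    rw [List.map_map]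
    rfl
  have hLLlen : LL.length = H.index := by
    rw [← hlen, hLL, List.length_flatMap]
    congr 1
    apply List.map_congr_left
    intro r _
    rw [List.length_map, List.length_range]
  rw [sum_cosets_eq_list H (fiberCnt g c) LL (by rw [hmap]; exact hnd) hLLlen]
  apply congrArg (· % 2)
  rw [hLL, List.map_flatMap, List.flatMap_def, List.sum_flatten, List.map_map]
  congr 1
  apply List.map_congr_left
  intro r _
  show ((List.map (fun t => fiberCnt g c (cosetOf H t)) (List.map (fun i => g ^ i * r.1)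
    (List.range r.2)))).sum = _
  rw [List.map_map]
  have : (List.map ((fun t => fiberCnt g c (cosetOf H t)) ∘ fun i => g ^ i * r.1)
      (List.range r.2)) = List.map (fun _ => fiberCnt g c (cosetOf H r.1)) (List.range r.2) := by
    apply List.map_congr_left
    intro i _
    exact fiberCnt_pow_mul H g c r.1 hcg i
  rw [this, List.map_const', List.sum_replicate, List.length_range, smul_eq_mul,
    fiberCnt_coset]

end Cfsg.Agent.Lib.Helper24.M24Blk
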