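import Mathlib
import Cfsg.Agent.Lib.Helper24.M24Blk.Coset
import Cfsg.Agent.Lib.Helper13.M22Enum
import Cfsg.Agent.Lib.Helper28.OctadStab

/-!
# The cosets of the octad stabilizer in `M₂₄` through packed tables (helper24)

Elements of `M₂₄` named by packed tables, words in three generators, the key of the image of the base
octad (distinguishing the cosets of the octad stabilizer), and the parity of the one-block count of a
class representative from a list of orbit representatives of `⟨g⟩` on the 759 octads.
-/

set_option autoImplicit false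
set_option linter.unusedSectionVars false
set_option linter.unusedVariables false

namespace Cfsg.Agent.Lib.Helper24.M24Blk

open Cfsg MulAction Cfsg.Agent.Lib.Helper28 Cfsg.Agent.Lib.Helper13.PackPerm
  Cfsg.Agent.Lib.Helper13.M22Enum Cfsg.Agent.Lib.Helper20.OneBlock
open scoped Pointwise

/-! ### elements named by packed tables -/

/-- a packed table of an element of `M₂₄` -/
def Valid (p : ℕ) : Prop := (∃ σ : ↥M24, ActsBy σ.1 p) ∧ Canon p

open scoped Classical in
/-- the element of `M₂₄` with a given packed table -/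
noncomputable def elt (p : ℕ) : ↥M24 :=
  if h : ∃ σ : ↥M24, ActsBy σ.1 p then h.choose else 1

theorem elt_acts {p : ℕ} (h : Valid p) : ActsBy (elt p).1 p := by
  unfold elt
  rw [dif_pos h.1]
  exact h.1.choose_spec

theorem elt_rep {p : ℕ} (h : Valid p) : Rep (elt p).1 p := ⟨elt_acts h, h.2⟩

theorem valid_of_rep {σ : ↥M24} {p : ℕ} (h : Rep σ.1 p) : Valid p := ⟨⟨σ, h.1⟩, h.2⟩

theorem elt_eq {σ : ↥M24} {p : ℕ} (h : Rep σ.1 p) : elt p = σ :=
  Subtype.ext (actsBy_unique (elt_acts (valid_of_rep h)) h.1)

theorem rep_mul {σ τ : ↥M24} {p q : ℕ} (hp : Rep σ.1 p) (hq : Rep τ.1 q) :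
    Rep (σ * τ).1 (compP p q) := hp.comp hq

theorem valid_comp {p q : ℕ} (hp : Valid p) (hq : Valid q) : Valid (compP p q) :=
  valid_of_rep (rep_mul (elt_rep hp) (elt_rep hq))

theorem elt_comp {p q : ℕ} (hp : Valid p) (hq : Valid q) : elt (compP p q) = elt p * elt q :=
  elt_eq (rep_mul (elt_rep hp) (elt_rep hq))

theorem valid_idP : Valid idP := valid_of_rep (σ := 1) rep_one

theorem elt_idP : elt idP = 1 := elt_eq (σ := 1) rep_one

theorem valid_of_tab {p : ℕ} (h : TabM24 p) (hc : Canon p) : Valid p :=
  valid_of_rep (σ := ⟨permOf p, permOf_mem h⟩) (permOf_rep h hc)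

/-! ### words in three generators -/

/-- `t ↦ t + 1` -/
def shiftP : ℕ := 956302485175575353788796878166559809
/-- `t ↦ -1/t` -/
def projP : ℕ := 1795248432537898728475572672376535
/-- the cube twist -/
def cubeP : ℕ := 974380510768821363662145534143076928

/-- the packed generators -/
def genP : ℕ → ℕ
  | 0 => shiftP
  | 1 => projP
  | _ => cubeP

set_option maxRecDepth 100000 in
set_option maxHeartbeats 4000000 in
theorem gens_ok : (TabM24 shiftP ∧ Canon shiftP) ∧ (TabM24 projP ∧ Canon projP) ∧
    (TabM24 cubeP ∧ Canon cubeP) := by decide +kernel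

theorem valid_genP (i : ℕ) : Valid (genP i) := by
  obtain ⟨h0, h1, h2⟩ := gens_ok
  match i with
  | 0 => exact valid_of_tab h0.1 h0.2
  | 1 => exact valid_of_tab h1.1 h1.2
  | (_ + 2) => exact valid_of_tab h2.1 h2.2

/-- the packed table of a word -/
def wordP : List ℕ → ℕ
  | [] => idP
  | i :: w => compP (genP i) (wordP w)

theorem valid_wordP (w : List ℕ) : Valid (wordP w) := by
  induction w with
  | nil => exact valid_idP
  | cons i w ih => exact valid_comp (valid_genP i) ih

/-! ### the key of an octad -/

/-- the points of the base octad -/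
def octPts : List ℕ := [0, 1, 2, 3, 5, 14, 17, 23]

theorem goodSet_octPts : GoodSet octPts := by decide

set_option maxRecDepth 100000 in
theorem baseOctad_eq_ptSet : baseOctad = ptSet octPts := by
  apply Finset.ext
  decide

/-- the key of the image of the base octad under a packed table -/
def keyP (p : ℕ) : ℕ := ((stepSet p octPts).map fun a => 2 ^ a).sum

/-- the key of a set of points -/
noncomputable def octKey (S : Finset GolayPt) : ℕ := ∑ x ∈ S, 2 ^ (ptInv x).val

theorem octKey_ptSet {l : List ℕ} (hl : GoodSet l) :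
    octKey (ptSet l) = (l.map fun a => 2 ^ a).sum := by
  unfold octKey ptSet
  rw [List.sum_toFinset _ (nodup_map_ptN hl), List.map_map]
  congr 1
  apply List.map_congr_left
  intro a ha
  show 2 ^ (ptInv (ptN a)).val = 2 ^ a
  rw [ptInv_ptN (hl.2 a ha)]

theorem octKey_smul {σ : ↥M24} {p : ℕ} (h : ActsBy σ.1 p) : octKey (σ • baseOctad) = keyP p := by
  have h1 : σ • baseOctad = σ.1 • baseOctad := rfl
  rw [h1, baseOctad_eq_ptSet]
  obtain ⟨h2, h3⟩ := smul_ptSet h goodSet_octPts
  rw [h2, octKey_ptSet h3]
  rfl

/-- the stabilizer of the base octad in `M₂₄` -/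
noncomputable abbrev HO : Subgroup ↥M24 := stabilizer ↥M24 baseOctad

theorem index_HO : HO.index = 759 := by
  show (stabilizer ↥M24 baseOctad).index = 759
  rw [MulAction.index_stabilizer, orbit_baseOctad, Cfsg.Agent.S0360.result]

theorem smul_eq_of_coset_eq {s t : ↥M24} (h : cosetOf HO s = cosetOf HO t) :
    s • baseOctad = t • baseOctad := by
  have h1 : s⁻¹ * t ∈ HO := QuotientGroup.eq.mp h
  rw [mem_stabilizer_iff, mul_smul, inv_smul_eq_iff] at h1
  exact h1.symm

end Cfsg.Agent.Lib.Helper24.M24Blk
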