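import Mathlib
import Cfsg.Agent.Lib.Helper24.M24Blk.M24Cos

/-!
# The parity of the one-block count of a class of `M₂₄` from orbit data (helper24)

Given a class representative `g` (packed), a commuting involution `c` (packed, possibly trivial), and for
each orbit of `⟨g⟩` on the 759 octads a word for an element `q` mapping the base octad into the orbit,
the orbit size, and — when `c` fixes the octad — the packed conjugates `γ = q⁻¹ g q`, `κ = q⁻¹ c q` and the
local count in the octad stabilizer, the parity of the one-block count of `g` is that of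
`Σ size × count`.
-/

set_option autoImplicit false
set_option linter.unusedSectionVars false
set_option linter.unusedVariables false

namespace Cfsg.Agent.Lib.Helper24.M24Blk

open Cfsg MulAction Cfsg.Agent.Lib.Helper28 Cfsg.Agent.Lib.Helper13.PackPerm
  Cfsg.Agent.Lib.Helper13.M22Enum Cfsg.Agent.Lib.Helper20.OneBlock
open scoped Pointwise

/-- the local count in the stabilizer of the base octad -/
noncomputable def octCnt (γ κ : Equiv.Perm GolayPt) : ℕ :=
  Nat.card {y : ↥OStab // Good 2 γ (y : Equiv.Perm GolayPt) ∧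
    κ * (y : Equiv.Perm GolayPt) = (y : Equiv.Perm GolayPt) * κ}

theorem good_coe_iff (γ y : ↥M24) : Good 2 γ y ↔ Good 2 γ.1 y.1 := by
  unfold Good
  rw [← Subgroup.orderOf_coe, ← Subgroup.orderOf_coe]
  rfl

theorem locCnt_eq_octCnt (γ κ : ↥M24) : locCnt HO γ κ = octCnt γ.1 κ.1 := by
  unfold locCnt octCnt
  apply Nat.card_congr
  let e : ↥HO ≃ ↥OStab :=
    { toFun := fun y => ⟨y.1.1, mem_OStab.mpr ⟨y.1.2, mem_stabilizer_iff.mp y.2⟩⟩
      invFun := fun z => ⟨⟨z.1, (mem_OStab.mp z.2).1⟩, mem_stabilizer_iff.mpr (mem_OStab.mp z.2).2⟩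
      left_inv := fun y => rfl
      right_inv := fun z => rfl }
  refine Equiv.subtypeEquiv e ?_
  intro y
  show (Good 2 γ y.1 ∧ κ * y.1 = y.1 * κ) ↔ (Good 2 γ.1 y.1.1 ∧ κ.1 * y.1.1 = y.1.1 * κ.1)
  rw [good_coe_iff, Subtype.ext_iff]
  rfl

/-- the packed table of a conjugate from a check -/
theorem rep_conj {t g : ↥M24} {q gP γ : ℕ} (ht : Rep t.1 q) (hg : Rep g.1 gP) (hv : TabValid γ)
    (hcan : Canon γ) (he : compP q γ = compP gP q) : Rep (t⁻¹ * g * t).1 γ := by
  refine ⟨?_, hcan⟩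
  intro a ha
  have hb : look γ a < 24 := hv ⟨a, ha⟩
  refine ⟨hb, ?_⟩
  show (t.1⁻¹ * g.1 * t.1) (ptN a) = ptN (look γ a)
  rw [Equiv.Perm.mul_apply, Equiv.Perm.mul_apply, Equiv.Perm.inv_eq_iff_eq]
  obtain ⟨h1, h2⟩ := ht.1 a ha
  rw [h2, (hg.1 _ h1).2, (ht.1 _ hb).2]
  rw [compP_eq, compP_eq] at he
  have h3 : look (compRaw q γ) a = look (compRaw gP q) a := by rw [he]
  rw [look_comp _ _ _ ha, look_comp _ _ _ ha] at h3
  rw [h3]

/-- the table `k` maps the base octad into itself -/
def OctIn (k : ℕ) : Prop :=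
  ∀ a : Fin 24, (8536111 : ℕ).testBit a.val = true → (8536111 : ℕ).testBit (tabOfNat k a).val = true

instance (k : ℕ) : Decidable (OctIn k) := by unfold OctIn; infer_instance

theorem smul_baseOctad_of_octIn {σ : Equiv.Perm GolayPt} {k : ℕ} (h : ActsBy σ k) (ho : OctIn k) :
    σ • baseOctad = baseOctad :=
  smul_maskSet_of_table (tabOfNat k) (tabOfNat_pt h) 8536111 ho

/-- the packed tables `q, g q, g² q, …` -/
def iterL (gP : ℕ) : ℕ → ℕ → List ℕ
  | 0, _ => []
  | n + 1, q => q :: iterL gP n (compP gP q)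

theorem iterL_valid {gP : ℕ} (hg : Valid gP) : ∀ (n q : ℕ), Valid q → ∀ p ∈ iterL gP n q, Valid p := by
  intro n
  induction n with
  | zero => intro q _ p hp; simp [iterL] at hp
  | succ n ih =>
    intro q hq p hp
    rw [iterL, List.mem_cons] at hp
    rcases hp with rfl | hp
    · exact hq
    · exact ih _ (valid_comp hg hq) p hp

theorem iterL_map_elt {gP : ℕ} (hg : Valid gP) : ∀ (n q : ℕ), Valid q →
    (iterL gP n q).map elt = (List.range n).map fun i => elt gP ^ i * elt q := by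
  intro n
  induction n with
  | zero => intro q _; rfl
  | succ n ih =>
    intro q hq
    rw [iterL, List.map_cons, ih _ (valid_comp hg hq), List.range_succ_eq_map, List.map_cons,
      List.map_map, pow_zero, one_mul, elt_comp hg hq]
    congr 1
    apply List.map_congr_left
    intro i _
    show elt gP ^ i * (elt gP * elt q) = elt gP ^ (i + 1) * elt q
    rw [pow_succ, mul_assoc]

/-- an orbit entry: word, orbit size, packed `γ` (or `0`), packed `κ`, local count -/
abbrev Entry : Type := List ℕ × ℕ × ℕ × ℕ × ℕ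

/-- the checks of an entry -/
def EntryOK (gP cP : ℕ) (d : Entry) : Prop :=
  if d.2.2.1 = 0 then
    d.2.2.2.2 = 0 ∧ keyP (compP cP (wordP d.1)) ≠ keyP (wordP d.1)
  else
    compP (wordP d.1) d.2.2.1 = compP gP (wordP d.1) ∧
    compP (wordP d.1) d.2.2.2.1 = compP cP (wordP d.1) ∧
    TabValid d.2.2.1 ∧ Canon d.2.2.1 ∧ TabValid d.2.2.2.1 ∧ Canon d.2.2.2.1 ∧ OctIn d.2.2.2.1

instance (gP cP : ℕ) (d : Entry) : Decidable (EntryOK gP cP d) := by
  unfold EntryOK; infer_instance

theorem nodup_map_of_nodup_map {α β γ : Type*} (l : List α) (f : α → β) (h : α → γ)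
    (hfh : ∀ a ∈ l, ∀ b ∈ l, f a = f b → h a = h b) (hn : (l.map h).Nodup) : (l.map f).Nodup := by
  have h1 : l.Nodup := List.Nodup.of_map h hn
  have h2 := List.inj_on_of_nodup_map hn
  exact List.Nodup.map_on (fun a ha b hb hab => h2 ha hb (hfh a ha b hb hab)) h1

/-- the term of an orbit entry -/
theorem term_eq (gP cP : ℕ) (hg : Valid gP) (hc : Valid cP) (d : Entry) (hok : EntryOK gP cP d)
    (hcnt : d.2.2.1 ≠ 0 → ∀ γ κ : Equiv.Perm GolayPt, γ ∈ M24 → Rep γ d.2.2.1 →
      Rep κ d.2.2.2.1 → octCnt γ κ = d.2.2.2.2) (t : ↥M24) (ht : t = elt (wordP d.1))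
    [inst : Decidable (t⁻¹ * elt cP * t ∈ HO)] :
    (@ite _ (t⁻¹ * elt cP * t ∈ HO) inst (locCnt HO (t⁻¹ * elt gP * t) (t⁻¹ * elt cP * t)) 0) =
      d.2.2.2.2 := by
  have hq := valid_wordP d.1
  have htrep : Rep t.1 (wordP d.1) := by rw [ht]; exact elt_rep hq
  unfold EntryOK at hok
  by_cases h0 : d.2.2.1 = 0
  · rw [if_pos h0] at hok
    obtain ⟨hz, hne⟩ := hok
    rw [hz, if_neg]
    intro hmem
    apply hne
    rw [mem_stabilizer_iff, mul_smul, mul_smul, inv_smul_eq_iff, ← mul_smul] at hmem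
    rw [← octKey_smul (σ := elt cP * t) (rep_mul (elt_rep hc) htrep).1, ← octKey_smul htrep.1, hmem]
  · rw [if_neg h0] at hok
    obtain ⟨e1, e2, v1, c1, v2, c2, ho⟩ := hok
    have r1 : Rep (t⁻¹ * elt gP * t).1 d.2.2.1 := rep_conj htrep (elt_rep hg) v1 c1 e1
    have r2 : Rep (t⁻¹ * elt cP * t).1 d.2.2.2.1 := rep_conj htrep (elt_rep hc) v2 c2 e2
    have hmem : t⁻¹ * elt cP * t ∈ HO := by
      rw [mem_stabilizer_iff]
      exact smul_baseOctad_of_octIn r2.1 ho
    rw [if_pos hmem, locCnt_eq_octCnt]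
    exact hcnt h0 _ _ (t⁻¹ * elt gP * t).2 r1 r2

theorem coset_list_eq (gP : ℕ) (hg : Valid gP) (Q : List Entry) :
    ((Q.map fun d => (elt (wordP d.1), d.2.1)).flatMap fun r : ↥M24 × ℕ =>
        (List.range r.2).map fun i => cosetOf HO (elt gP ^ i * r.1)) =
      ((Q.flatMap fun d => iterL gP d.2.1 (wordP d.1)).map elt).map (cosetOf HO) := by
  induction Q with
  | nil => rfl
  | cons d Q ih =>
    rw [List.map_cons, List.flatMap_cons, ih, List.flatMap_cons, List.map_append, List.map_append,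
      iterL_map_elt hg _ _ (valid_wordP d.1)]
    congr 1
    rw [List.map_map]
    rfl

open scoped Classical in
/-- the parity of the one-block count from the orbit data -/
theorem even_of_cls (gP cP : ℕ) (hg : Valid gP) (hc : Valid cP) (hc2 : compP cP cP = idP)
    (hcg : compP cP gP = compP gP cP) (Q : List Entry)
    (hnd : (Q.flatMap fun d => (iterL gP d.2.1 (wordP d.1)).map keyP).Nodup)
    (hlen : (Q.map fun d => d.2.1).sum = 759)
    (hok : ∀ d ∈ Q, EntryOK gP cP d)
    (hpar : (Q.map fun d => d.2.1 * d.2.2.2.2).sum % 2 = 0)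
    (hcnt : ∀ d ∈ Q, d.2.2.1 ≠ 0 → ∀ γ κ : Equiv.Perm GolayPt, γ ∈ M24 → Rep γ d.2.2.1 →
      Rep κ d.2.2.2.1 → octCnt γ κ = d.2.2.2.2) :
    Even (Nat.card {x : ↥M24 // Good 2 (elt gP) x}) := by
  have hc2' : elt cP * elt cP = 1 := by rw [← elt_comp hc hc, hc2, elt_idP]
  have hcg' : elt cP * elt gP = elt gP * elt cP := by
    rw [← elt_comp hc hg, ← elt_comp hg hc, hcg]
  have hLLPvalid : ∀ p ∈ (Q.flatMap fun d => iterL gP d.2.1 (wordP d.1)), Valid p := by
    intro p hp
    rw [List.mem_flatMap] at hp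
    obtain ⟨d, _, hpd⟩ := hp
    exact iterL_valid hg _ _ (valid_wordP d.1) p hpd
  have hnd' : ((Q.map fun d => (elt (wordP d.1), d.2.1)).flatMap fun r : ↥M24 × ℕ =>
        (List.range r.2).map fun i => cosetOf HO (elt gP ^ i * r.1)).Nodup := by
    rw [coset_list_eq gP hg Q, List.map_map]
    apply nodup_map_of_nodup_map _ _ keyP
    · intro a ha b hb hab
      have h1 := smul_eq_of_coset_eq hab
      rw [← octKey_smul (elt_acts (hLLPvalid a ha)), ← octKey_smul (elt_acts (hLLPvalid b hb)), h1]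
    · rw [List.map_flatMap]
      exact hnd
  have hlen' : ((Q.map fun d => ((elt (wordP d.1), d.2.1) : ↥M24 × ℕ)).map Prod.snd).sum =
      HO.index := by
    rw [List.map_map, index_HO, ← hlen]
    rfl
  have hodd : Odd HO.index := by rw [index_HO]; exact ⟨379, by norm_num⟩
  have key := card_good_modEq_list HO hodd (elt gP) (elt cP) hc2' hcg' _ hnd' hlen'
  rw [List.map_map] at key
  rw [Nat.even_iff]
  refine Eq.trans key (Eq.trans ?_ hpar)
  congr 2
  apply List.map_congr_left
  intro d hd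
  rw [Function.comp_apply]
  dsimp only
  rw [term_eq gP cP hg hc d (hok d hd) (hcnt d hd) (elt (wordP d.1)) rfl
    (inst := Classical.propDecidable _)]

end Cfsg.Agent.Lib.Helper24.M24Blk
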