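import Mathlib
import Cfsg.Agent.Lib.Helper24.M24Blk.M24Cls

/-!
# A forced evaluation of the list of octad keys and a boolean test for distinctness (helper24)
-/

set_option autoImplicit false

namespace Cfsg.Agent.Lib.Helper24.M24Blk

open Cfsg Cfsg.Agent.Lib.Helper28 Cfsg.Agent.Lib.Helper13.PackPerm Cfsg.Agent.Lib.Helper13.M22Enum

/-- the keys of `q, g q, …` pushed on an accumulator, each one evaluated when pushed -/
def keysAcc (gP : ℕ) : ℕ → ℕ → List ℕ → List ℕ
  | 0, _, acc => acc
  | n + 1, q, acc => frc q fun q' => frc (keyP q') fun k => keysAcc gP n (compP gP q') (k :: acc)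

theorem keysAcc_eq (gP : ℕ) : ∀ (n q : ℕ) (acc : List ℕ),
    keysAcc gP n q acc = ((iterL gP n q).map keyP).reverse ++ acc := by
  intro n
  induction n with
  | zero => intro q acc; rfl
  | succ n ih =>
    intro q acc
    rw [keysAcc, frc_eq, frc_eq, ih, iterL, List.map_cons, List.reverse_cons, List.append_assoc]
    rfl

/-- the keys of all orbits -/
def keysQ (gP : ℕ) : List Entry → List ℕ → List ℕ
  | [], acc => acc
  | d :: Q, acc => keysQ gP Q (keysAcc gP d.2.1 (wordP d.1) acc)

theorem keysQ_eq (gP : ℕ) : ∀ (Q : List Entry) (acc : List ℕ),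
    keysQ gP Q acc = (Q.flatMap fun d => (iterL gP d.2.1 (wordP d.1)).map keyP).reverse ++ acc := by
  intro Q
  induction Q with
  | nil => intro acc; rfl
  | cons d Q ih =>
    intro acc
    rw [keysQ, ih, keysAcc_eq, List.flatMap_cons, List.reverse_append, List.append_assoc]

/-- `a` differs from all entries -/
def notIn (a : ℕ) : List ℕ → Bool
  | [] => true
  | b :: l => cond (Nat.beq a b) false (notIn a l)

theorem notIn_sound (a : ℕ) : ∀ l : List ℕ, notIn a l = true → a ∉ l := by
  intro l
  induction l with
  | nil => intro _; simp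
  | cons b l ih =>
    intro h
    rw [notIn] at h
    cases hb : Nat.beq a b
    · rw [hb, cond_false] at h
      rw [List.mem_cons, not_or]
      refine ⟨?_, ih h⟩
      intro hab
      rw [hab, Nat.beq_refl] at hb
      exact absurd hb (by decide)
    · rw [hb, cond_true] at h
      exact absurd h (by decide)

/-- boolean test for distinctness -/
def nodupB : List ℕ → Bool
  | [] => true
  | a :: l => cond (notIn a l) (nodupB l) false

theorem nodupB_sound : ∀ l : List ℕ, nodupB l = true → l.Nodup := by
  intro l
  induction l with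
  | nil => intro _; exact List.nodup_nil
  | cons a l ih =>
    intro h
    rw [nodupB] at h
    cases ha : notIn a l
    · rw [ha, cond_false] at h
      exact absurd h (by decide)
    · rw [ha, cond_true] at h
      exact List.nodup_cons.mpr ⟨notIn_sound a l ha, ih h⟩

/-- distinctness of the residues modulo `4096` through a bit set -/
def nodupH : List ℕ → ℕ → Bool
  | [], _ => true
  | k :: l, seen => frc (k % 4096) fun h =>
      cond (Nat.testBit seen h) false (nodupH l (seen ||| (1 <<< h)))

theorem nodupH_sound : ∀ (l : List ℕ) (seen : ℕ), nodupH l seen = true →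
    l.Nodup ∧ ∀ k ∈ l, seen.testBit (k % 4096) = false := by
  intro l
  induction l with
  | nil => intro seen _; exact ⟨List.nodup_nil, fun k hk => by simp at hk⟩
  | cons k l ih =>
    intro seen h
    rw [nodupH, frc_eq] at h
    cases hk : Nat.testBit seen (k % 4096)
    · rw [hk, cond_false] at h
      obtain ⟨h1, h2⟩ := ih _ h
      have hnot : k ∉ l := by
        intro hkl
        have h3 := h2 k hkl
        rw [Nat.testBit_lor, Nat.one_shiftLeft, Nat.testBit_two_pow_self, Bool.or_true] at h3
        exact absurd h3 (by decide)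
      refine ⟨List.nodup_cons.mpr ⟨hnot, h1⟩, ?_⟩
      intro x hx
      rw [List.mem_cons] at hx
      rcases hx with rfl | hx
      · exact hk
      · have h3 := h2 x hx
        rw [Nat.testBit_lor, Bool.or_eq_false_iff] at h3
        exact h3.1
    · rw [hk, cond_true] at h
      exact absurd h (by decide)

theorem nodup_of_keysH (gP : ℕ) (Q : List Entry) (h : nodupH (keysQ gP Q []) 0 = true) :
    (Q.flatMap fun d => (iterL gP d.2.1 (wordP d.1)).map keyP).Nodup := by
  have h1 := (nodupH_sound _ _ h).1
  rw [keysQ_eq, List.append_nil, List.nodup_reverse] at h1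
  exact h1

theorem nodup_of_keysQ (gP : ℕ) (Q : List Entry) (h : nodupB (keysQ gP Q []) = true) :
    (Q.flatMap fun d => (iterL gP d.2.1 (wordP d.1)).map keyP).Nodup := by
  have h1 := nodupB_sound _ h
  rw [keysQ_eq, List.append_nil, List.nodup_reverse] at h1
  exact h1

end Cfsg.Agent.Lib.Helper24.M24Blk
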