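import Mathlib
import Cfsg.Agent.Lib.Helper24.M24Blk.Keys
import Cfsg.Agent.Lib.Helper24.M24Blk.Data

/-!
# Orbit data of the class `3A` of `M₂₄` on the octads (helper24)
-/

set_option autoImplicit false
set_option maxRecDepth 1000000
set_option maxHeartbeats 40000000

namespace Cfsg.Agent.Lib.Helper24.M24Blk

open Cfsg Cfsg.Agent.Lib.Helper28 Cfsg.Agent.Lib.Helper13.PackPerm Cfsg.Agent.Lib.Helper13.M22Enum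
  Cfsg.Agent.Lib.Helper20.OneBlock

/-- the class representative -/
def g3AP : ℕ := 24243033552532260328186959759871713
/-- the commuting involution (or the identity) -/
def c3AP : ℕ := 970499966350631336865513127433832480

/-- the orbit entries -/
def Q3A : List Entry := [
  ([1, 0, 2, 1, 0, 1, 0, 0, 1], 3, 237001987809458089603486575497970123, 715734048135252778992534258547066912, 52),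
  ([2, 1, 0, 0, 0, 0, 1, 0, 0], 3, 0, 0, 0),
  ([0, 1, 0, 0, 1, 0], 3, 0, 0, 0),
  ([1, 0, 0, 2, 1, 0, 1, 0], 3, 276146280211370847511874343437339233, 592348547565827762175298702812940320, 54),
  ([0, 2, 1, 0, 0, 0, 0, 1, 0, 0], 3, 568722075581142867868029588836957355, 25536438262301059128512658484038711, 16),
  ([0, 0, 1, 0, 0, 1, 0], 3, 0, 0, 0),
  ([2, 0, 0, 2, 0, 1, 0], 3, 0, 0, 0),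
  ([1, 0, 0, 1, 0, 2, 0, 0], 3, 0, 0, 0),
  ([2, 2, 0, 2, 1, 0, 2, 2, 2, 1], 3, 0, 0, 0),
  ([2, 2, 2, 0, 1, 0], 3, 0, 0, 0),
  ([1, 0, 0, 0, 2, 1], 3, 0, 0, 0),
  ([0, 0, 0, 1, 0, 0, 1, 0], 3, 0, 0, 0),
  ([0, 1, 0, 2, 1], 3, 0, 0, 0),
  ([2, 2, 0, 0, 0, 1, 0, 0], 3, 0, 0, 0),
  ([2, 2, 2, 0, 1, 0, 0, 1], 3, 0, 0, 0),
  ([2, 2, 0, 2, 1, 0, 0], 3, 0, 0, 0),
  ([2, 2, 2, 2, 0, 0, 1, 0], 3, 0, 0, 0),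
  ([0, 2, 2, 2, 0, 1, 0], 3, 0, 0, 0),
  ([1, 0, 2, 0, 2, 1, 0, 1], 3, 0, 0, 0),
  ([2, 2, 0, 1, 0], 3, 0, 0, 0),
  ([2, 0, 2, 1, 0, 0, 1, 0], 3, 0, 0, 0),
  ([0, 1, 0, 0, 0, 2, 1], 3, 0, 0, 0),
  ([2, 1, 0, 1, 0, 0, 0, 0, 1, 0], 3, 0, 0, 0),
  ([0, 0, 1, 0, 2, 1], 3, 0, 0, 0),
  ([0, 0, 1, 0, 0, 0, 1, 0, 1], 3, 0, 0, 0),
  ([2, 0, 0, 0, 1, 0, 0], 3, 0, 0, 0),
  ([2, 0, 0, 0, 1, 0], 3, 0, 0, 0),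
  ([1, 0, 2, 2, 2, 0, 0], 3, 0, 0, 0),
  ([0, 2, 2, 0, 2, 1, 0, 0], 3, 0, 0, 0),
  ([2, 0, 0, 0, 1, 0, 0, 1, 0], 3, 0, 0, 0),
  ([1, 0, 0], 3, 0, 0, 0),
  ([2, 0, 0, 0, 2, 1, 0, 0], 1, 0, 0, 0),
  ([0, 2, 1, 0, 0, 2, 0, 2], 3, 0, 0, 0),
  ([0, 2, 2, 0, 1, 0], 3, 974999806601863565683833875810623542, 984806227379088838201018984694921248, 52),
  ([0, 2, 0, 2, 1, 0, 0, 1, 0], 3, 0, 0, 0),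
  ([0, 2, 1, 0, 0, 0], 3, 0, 0, 0),
  ([2, 2, 1, 0, 2, 2, 0, 1], 3, 967942764742804360422948055559854120, 722567797787078513592020738258308128, 62),
  ([0, 0, 1, 0, 0, 0, 2, 1], 3, 0, 0, 0),
  ([0, 2, 1, 0, 2, 1], 3, 0, 0, 0),
  ([0, 1, 0, 2, 0, 1, 0, 0, 1], 3, 0, 0, 0),
  ([2, 2, 0, 0, 1, 0, 0, 1], 3, 0, 0, 0),
  ([2, 1, 0, 2, 0, 2, 1], 3, 0, 0, 0),
  ([0, 0, 0, 1, 0, 2, 1], 3, 0, 0, 0),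
  ([1, 0, 0, 0, 0, 0, 1, 0, 0], 3, 0, 0, 0),
  ([0, 2, 0, 0, 0, 1, 0, 0], 3, 0, 0, 0),
  ([2, 1, 0, 0, 0, 0, 1], 3, 0, 0, 0),
  ([2, 0, 1, 0], 3, 0, 0, 0),
  ([0, 1, 0, 2, 2, 2, 0, 0], 3, 0, 0, 0),
  ([1, 0, 0, 0, 2, 1, 0, 0, 0], 3, 0, 0, 0),
  ([0, 1, 0, 0, 0, 1, 0, 2], 3, 0, 0, 0),
  ([2, 0, 2, 1, 0, 0], 3, 727112977453489072382012251054868582, 50202157793935246551961082207451877, 232),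
  ([0, 1, 0, 0], 3, 0, 0, 0),
  ([0, 0, 1, 0, 2, 1, 0, 2], 3, 296785389738977648160459163387539008, 981616150452815826097002658071151680, 62),
  ([2, 0, 2, 1, 0, 2, 1], 3, 0, 0, 0),
  ([2, 0, 2, 0, 2, 2, 0, 1, 0, 0], 3, 0, 0, 0),
  ([0, 0, 2, 2, 0, 1, 0], 3, 0, 0, 0),
  ([2, 0, 2, 2, 2, 0, 1, 0], 3, 177844469132787441861253111815982126, 984728307533059736561803021309294641, 52),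
  ([1, 0, 1, 0, 0, 0, 0, 1, 0], 3, 849814229537008828662826253720885288, 972689361118954751962177104254089251, 54),
  ([0, 0, 2, 1, 0, 0, 0], 3, 694031869386159305195806507405041056, 980396787561598970936339623786416672, 54),
  ([2, 0, 1, 0, 0, 0, 0], 3, 0, 0, 0),
  ([2, 0, 1, 0, 2], 3, 0, 0, 0),
  ([1, 0, 2, 0, 2, 1], 3, 0, 0, 0),
  ([1, 0, 0, 0, 0, 1, 0, 0], 3, 0, 0, 0),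
  ([2, 0, 2, 2, 1, 0, 0, 0], 3, 0, 0, 0),
  ([2, 1, 0, 0, 0, 2, 0, 2], 3, 0, 0, 0),
  ([2, 1, 0, 2, 1, 0, 1], 3, 0, 0, 0),
  ([0, 0, 1, 0, 2, 2], 3, 0, 0, 0),
  ([2, 1, 0, 0], 3, 0, 0, 0),
  ([2, 2, 0, 0, 0, 0, 1, 0, 0], 3, 0, 0, 0),
  ([2, 2, 1, 0, 0, 0], 3, 0, 0, 0),
  ([0, 1, 0, 2, 0, 1, 0], 3, 0, 0, 0),
  ([1, 0, 0, 1, 0, 0, 0], 3, 0, 0, 0),
  ([1, 0, 0, 2, 0, 1, 0, 0], 3, 0, 0, 0),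
  ([0, 0, 1, 0, 2], 3, 237198390599102186873740793945247795, 984811896368526027902876845265194432, 52),
  ([2, 2, 0, 2, 1, 0, 2, 2], 1, 99522793119504147058632928071352791, 70441545152478197518680859118582513, 64),
  ([2, 1, 0, 2, 2, 2, 0, 0], 3, 0, 0, 0),
  ([0, 0, 1, 0, 2, 0, 0, 0], 3, 0, 0, 0),
  ([0, 0, 1, 0, 0, 0, 1, 0, 2], 3, 0, 0, 0),
  ([0, 0, 2, 2, 1, 0, 2, 1], 3, 195223521195788866295845741175842856, 102849064340512708513882474386250784, 52),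
  ([0, 2, 0, 0, 1, 0, 2], 3, 0, 0, 0),
  ([2, 2, 2, 0, 2, 0, 1, 0], 1, 0, 0, 0),
  ([2, 2, 1, 0, 2, 0, 2, 1], 3, 0, 0, 0),
  ([0, 2, 0, 2, 2, 2, 0, 1, 0], 3, 0, 0, 0),
  ([1, 0, 2, 2, 0, 0, 0, 0, 0], 3, 0, 0, 0),
  ([2, 2, 0, 2, 1, 0, 2, 1], 3, 8652651506643610348895427837344275, 112511777460704415886908211521052206, 176),
  ([1, 0, 0, 0, 1, 0], 3, 0, 0, 0),
  ([0, 2, 1, 0, 0, 0, 2, 1], 3, 0, 0, 0),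
  ([0, 2, 0, 1, 0, 2], 3, 0, 0, 0),
  ([2, 2, 0, 0, 0, 1, 0], 3, 0, 0, 0),
  ([0, 0, 0, 2, 1, 0, 2, 1], 3, 0, 0, 0),
  ([2, 0, 0, 1, 0, 0, 1, 0], 3, 0, 0, 0),
  ([0, 2, 0, 2, 2, 1, 0, 0, 0], 3, 0, 0, 0),
  ([2, 2, 0, 1, 0, 0, 0], 3, 0, 0, 0),
  ([0, 1, 0, 0, 1], 3, 0, 0, 0),
  ([2, 0, 0, 1, 0, 0, 0, 1, 0], 3, 0, 0, 0),
  ([0, 2, 0, 1, 0, 2, 0, 1, 0], 3, 0, 0, 0),
  ([2, 2, 2, 0, 0, 0, 2, 0, 1, 0], 3, 0, 0, 0),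
  ([2, 2, 2, 1, 0, 2, 1, 0, 1], 3, 0, 0, 0),
  ([0, 2, 1, 0, 2, 1, 0, 1], 3, 0, 0, 0),
  ([0, 2, 1, 0, 0, 1, 0], 3, 0, 0, 0),
  ([1, 0, 0, 2, 2, 2, 1], 3, 0, 0, 0),
  ([0, 0, 0, 1, 0, 2, 2], 3, 0, 0, 0),
  ([1, 0, 0, 1, 0, 0, 2], 3, 0, 0, 0),
  ([1, 0, 0, 2, 2, 1, 0, 0, 0], 3, 0, 0, 0),
  ([2, 2, 0, 1, 0, 0, 1], 3, 0, 0, 0),
  ([0, 2, 1, 0, 0], 3, 0, 0, 0),
  ([0, 0, 2, 0, 1, 0, 2, 2], 3, 0, 0, 0),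
  ([2, 1, 0, 0, 2, 0, 0, 1], 3, 0, 0, 0),
  ([2, 0, 0, 2, 2, 1, 0, 0, 0], 3, 0, 0, 0),
  ([2, 1, 0, 2, 1, 0, 1, 0], 3, 0, 0, 0),
  ([0, 0, 1, 0, 2, 0, 1, 0], 3, 0, 0, 0),
  ([0, 1, 0, 2, 2, 0, 1], 3, 0, 0, 0),
  ([0, 1, 0, 0, 1, 0, 0, 0], 3, 0, 0, 0),
  ([2, 1, 0, 1, 0, 0], 3, 0, 0, 0),
  ([1, 0, 0, 0, 0, 1], 3, 0, 0, 0),
  ([0, 0, 2, 0, 1, 0], 3, 0, 0, 0),
  ([0, 0, 0, 1, 0, 2], 3, 0, 0, 0),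
  ([0, 2, 0, 0, 1, 0, 0], 3, 0, 0, 0),
  ([2, 2, 1, 0, 1, 0, 0, 0], 1, 0, 0, 0),
  ([2, 1, 0, 1, 0, 0, 2, 1], 3, 0, 0, 0),
  ([0, 0, 0, 1, 0, 0, 0, 0, 1], 3, 0, 0, 0),
  ([2, 0, 0, 1, 0, 0, 1], 3, 0, 0, 0),
  ([2, 1, 0, 1, 0, 0, 0, 1], 3, 0, 0, 0),
  ([0, 0, 2, 0, 1, 0, 0, 1], 3, 0, 0, 0),
  ([2, 0, 2, 1, 0, 2, 2], 3, 0, 0, 0),
  ([0, 1, 0, 0, 0, 0], 3, 0, 0, 0),
  ([0, 0, 0, 2, 2, 1, 0, 2, 1], 3, 0, 0, 0),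
  ([1, 0, 2, 0, 2, 1, 0, 0], 3, 0, 0, 0),
  ([2, 0, 2, 1, 0, 2, 2, 2, 1], 3, 0, 0, 0),
  ([0, 1, 0], 3, 0, 0, 0),
  ([2, 0, 1, 0, 0, 0, 0, 0], 3, 0, 0, 0),
  ([1, 0, 2, 2, 0, 0, 0], 3, 0, 0, 0),
  ([2, 1, 0, 2], 3, 0, 0, 0),
  ([2, 2, 1, 0, 2, 0, 1, 0], 3, 0, 0, 0),
  ([0, 2, 2, 0, 0, 0, 1, 0, 0, 0, 0], 3, 0, 0, 0),
  ([1, 0, 2, 0, 1, 0, 0, 2], 3, 0, 0, 0),
  ([2, 2, 0, 0, 1, 0], 3, 0, 0, 0),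
  ([1, 0, 0, 0, 0, 0], 3, 0, 0, 0),
  ([2, 0, 0, 2, 1, 0, 0], 3, 0, 0, 0),
  ([0, 1, 0, 2, 0, 2, 2, 1], 3, 0, 0, 0),
  ([0, 1, 0, 0, 2, 1], 3, 0, 0, 0),
  ([0, 2, 0, 1, 0, 0], 3, 0, 0, 0),
  ([2, 1, 0, 2, 0, 0, 0], 3, 0, 0, 0),
  ([0, 2, 2, 0, 1, 0, 0, 0], 3, 0, 0, 0),
  ([0, 0, 1, 0, 0, 1], 3, 0, 0, 0),
  ([1, 0, 0, 2, 2, 1, 0, 1, 0], 3, 0, 0, 0),
  ([2, 0, 2, 2, 0, 1, 0, 0], 3, 0, 0, 0),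
  ([2, 0, 1, 0, 0, 2, 0, 1, 0], 3, 0, 0, 0),
  ([2, 2, 0, 1, 0, 2, 0, 2, 2, 1], 3, 0, 0, 0),
  ([0, 1, 0, 0, 0, 2, 0, 2], 3, 0, 0, 0),
  ([0, 2, 2, 0, 2, 0, 1, 0], 3, 0, 0, 0),
  ([1, 0, 1, 0, 0, 1, 0, 0, 0], 1, 0, 0, 0),
  ([2, 2, 0, 0, 0, 0, 1, 0], 3, 0, 0, 0),
  ([2, 1, 0, 2, 0, 1, 0], 3, 0, 0, 0),
  ([0, 2, 0, 0, 0, 0, 1, 0], 3, 0, 0, 0),
  ([2, 2, 2, 0, 1, 0, 0, 0], 3, 0, 0, 0),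
  ([1, 0, 2, 0, 0, 1], 3, 0, 0, 0),
  ([0, 0, 2, 1, 0, 0, 1, 0], 3, 0, 0, 0),
  ([0, 0, 0, 2, 0, 0, 1, 0], 3, 0, 0, 0),
  ([0, 1, 0, 0, 2, 2, 2, 1], 3, 0, 0, 0),
  ([0, 0, 0, 2, 0, 1, 0, 0, 0], 3, 0, 0, 0),
  ([2, 0, 2, 1, 0, 2, 0, 1, 0], 3, 0, 0, 0),
  ([2, 0, 0, 2, 0, 1, 0, 0, 1], 3, 0, 0, 0),
  ([0, 1, 0, 0, 1, 0, 0, 2], 3, 0, 0, 0),
  ([2, 0, 0, 2, 1, 0, 2, 1], 3, 0, 0, 0),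
  ([0, 2, 2, 0, 1, 0, 0, 1], 3, 0, 0, 0),
  ([0, 0, 2, 1, 0, 0], 1, 0, 0, 0),
  ([1, 0, 2, 0, 0, 0], 3, 0, 0, 0),
  ([1, 0, 0, 0, 0, 1, 0, 2, 2], 3, 0, 0, 0),
  ([2, 0, 2, 2, 0, 2, 1, 0, 0], 3, 0, 0, 0),
  ([2, 2, 0, 2, 0, 0, 1, 0], 3, 0, 0, 0),
  ([2, 1, 0, 1, 0, 0, 0], 3, 0, 0, 0),
  ([2, 0, 1, 0, 2, 2, 0, 1], 3, 0, 0, 0),
  ([0, 2, 1, 0, 2, 1, 0, 1, 0], 3, 0, 0, 0),
  ([0, 0, 1, 0, 2, 2, 0, 1], 3, 0, 0, 0),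
  ([2, 0, 1, 0, 2, 0, 0, 0], 3, 0, 0, 0),
  ([2, 2, 2, 2, 0, 1, 0], 3, 0, 0, 0),
  ([1, 0, 0, 0, 1, 0, 0], 3, 0, 0, 0),
  ([0, 1, 0, 0, 0, 0, 1], 3, 0, 0, 0),
  ([2, 0, 1, 0, 0, 1], 3, 0, 0, 0),
  ([2, 2, 2, 1, 0, 2, 0, 1, 0], 3, 0, 0, 0),
  ([0, 0, 0, 0, 1, 0, 2], 3, 0, 0, 0),
  ([0, 1, 0, 0, 2, 2, 1], 3, 0, 0, 0),
  ([0, 0, 2, 0, 0, 1, 0, 0], 3, 0, 0, 0),
  ([0, 2, 2, 1, 0, 1, 0, 0, 0], 3, 0, 0, 0),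
  ([2, 0, 1, 0, 0, 0, 2, 1], 3, 0, 0, 0),
  ([1, 0, 0, 0, 2, 1, 0, 0], 3, 0, 0, 0),
  ([0, 1, 0, 2, 1, 0, 1], 3, 0, 0, 0),
  ([0, 1, 0, 2, 2, 1, 0, 0, 0], 3, 0, 0, 0),
  ([0, 2, 0, 2, 1, 0, 2, 2], 1, 0, 0, 0),
  ([1, 0, 2, 0, 0, 0, 2, 1], 3, 0, 0, 0),
  ([1, 0, 0, 0, 0, 2, 2, 1], 3, 0, 0, 0),
  ([2, 0, 0, 1, 0, 2, 1], 3, 0, 0, 0),
  ([1, 0, 2, 0, 2, 2, 2, 1], 3, 0, 0, 0),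
  ([0, 1, 0, 2, 2, 0, 0, 0], 3, 0, 0, 0),
  ([0, 2, 1, 0, 2], 3, 0, 0, 0),
  ([0, 2, 2, 1, 0, 2, 0, 1, 0], 3, 0, 0, 0),
  ([1, 0, 0, 1, 0, 0], 3, 0, 0, 0),
  ([0, 1, 0, 0, 0, 2, 0, 0], 3, 0, 0, 0),
  ([2, 2, 2, 2, 0, 1, 0, 0, 0], 3, 0, 0, 0),
  ([2, 2, 2, 1, 0, 2, 1, 0, 0], 3, 0, 0, 0),
  ([2, 1, 0, 1, 0, 0, 2], 3, 0, 0, 0),
  ([0, 2, 1, 0, 2, 2, 2, 1], 3, 0, 0, 0),
  ([2, 2, 2, 2, 0, 2, 1, 0, 0], 3, 354560698569044959281244026905415712, 93025809474654482351746938484874341, 176),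
  ([2, 0, 1, 0, 0, 1, 0, 0], 1, 969910755176304412474811566361348128, 29396286391881037760695838120708663, 16),
  ([2, 2, 2, 1, 0, 0, 1, 0], 3, 0, 0, 0),
  ([1, 0, 2, 2, 2, 2, 0, 0], 3, 748000386828010675256698588196099120, 965131035967436872075251960245682210, 52),
  ([0, 1, 0, 0, 0, 0, 0], 3, 753735840586311980721501517663814697, 976489780099076371613567291816446062, 62),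
  ([0, 2, 1, 0, 2, 2], 3, 0, 0, 0),
  ([0, 2, 1, 0, 2, 1, 0, 0], 3, 0, 0, 0),
  ([0, 0, 1, 0, 0, 0, 1, 0], 3, 0, 0, 0),
  ([2, 1, 0, 0, 0, 1, 0, 0], 1, 0, 0, 0),
  ([2, 0, 2, 0, 0, 0, 0, 1, 0], 3, 874927871986061037334869680046848279, 984818070671820887514443681551124640, 52),
  ([2, 0, 1, 0, 0, 0], 3, 818057209353012704072006130108644434, 13858692994544414546927238932139575, 232),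
  ([0, 1, 0, 0, 2, 2, 0, 1, 0], 3, 0, 0, 0),
  ([0, 1, 0, 0, 0], 3, 0, 0, 0),
  ([0, 2, 0, 0, 1, 0, 0, 0, 0], 3, 0, 0, 0),
  ([2, 2, 2, 0, 1, 0, 0], 3, 0, 0, 0),
  ([0, 0, 2, 0, 2, 0, 1, 0], 3, 918452634047430702988442488072289696, 984313243637743903367162865681286181, 62),
  ([2, 0, 1, 0, 2, 1, 0, 2, 1], 3, 0, 0, 0),
  ([0, 2, 0, 0, 2, 0, 0, 1, 0, 0], 1, 0, 0, 0),
  ([0, 0, 2, 1, 0, 0, 0, 1, 0], 3, 0, 0, 0),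
  ([1, 0, 2, 1, 0, 2, 0, 1], 3, 278490737249792271845377235245321461, 11943302717949000103320032424527927, 52),
  ([2, 2, 0, 1, 0, 2, 1], 3, 0, 0, 0),
  ([0, 1, 0, 2, 2, 2, 1], 3, 29273424016188041808023710843973092, 968632550561690124106994060238046304, 54),
  ([0, 1, 0, 0, 0, 1, 0, 1], 3, 0, 0, 0),
  ([0, 2, 2, 0, 1, 0, 0], 3, 0, 0, 0),
  ([2, 2, 2, 1, 0, 0, 0], 3, 0, 0, 0),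
  ([0, 1, 0, 2, 2], 3, 0, 0, 0),
  ([1, 0, 1, 0, 2, 0, 0], 3, 0, 0, 0),
  ([1, 0, 1, 0, 2, 2, 0, 0, 0], 3, 0, 0, 0),
  ([0, 1, 0, 2], 3, 0, 0, 0),
  ([0, 1, 0, 2, 0, 0, 0], 3, 0, 0, 0),
  ([0, 2, 2, 1, 0, 2, 1], 3, 0, 0, 0),
  ([1, 0, 2, 0, 0, 2, 2, 0, 0], 3, 0, 0, 0),
  ([0, 2, 2, 0, 2, 0, 0, 1, 0], 3, 0, 0, 0),
  ([2, 0, 1, 0, 2, 0, 1, 0], 3, 0, 0, 0),
  ([2, 2, 1, 0, 2, 0, 0, 0], 3, 0, 0, 0),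
  ([1, 0, 2, 0, 0, 2, 0, 1], 3, 0, 0, 0),
  ([0, 0, 2, 0, 0, 1, 0], 3, 0, 0, 0),
  ([0, 0, 2, 0, 1, 0, 0, 0], 3, 0, 0, 0),
  ([2, 1, 0, 2, 0, 1, 0, 1], 3, 0, 0, 0),
  ([1, 0, 0, 2, 2, 1], 3, 0, 0, 0),
  ([2, 0, 2, 1, 0, 2], 1, 0, 0, 0),
  ([0, 0, 0, 1, 0], 1, 0, 0, 0),
  ([2, 0, 1, 0, 2, 2, 1, 0, 0, 0], 3, 0, 0, 0),
  ([2, 2, 2, 0, 0, 2, 1, 0, 2, 1], 1, 0, 0, 0),
  ([0, 0, 1, 0, 2, 0, 1, 0, 1], 3, 0, 0, 0),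
  ([1, 0, 0, 0, 1, 0, 1], 3, 0, 0, 0),
  ([1, 0, 2], 3, 0, 0, 0),
  ([1, 0, 1, 0, 0, 0, 1], 3, 0, 0, 0),
  ([2, 2, 1, 0, 0, 1, 0], 1, 0, 0, 0),
  ([2, 2, 1, 0, 2, 2, 2, 0, 0], 3, 0, 0, 0),
  ([0, 1, 0, 2, 0, 1, 0, 1], 3, 0, 0, 0),
  ([2, 0, 0, 1, 0], 1, 139203507745535946649552530339546199, 70973755377764488335942145896681201, 64),
  ([0, 2, 2, 2, 0, 2, 0, 0, 1, 0], 3, 0, 0, 0),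
  ([2, 2, 2, 2, 0, 2, 2, 1], 3, 0, 0, 0),
  ([0, 0, 2, 0, 0], 1, 0, 0, 0),
  ([2, 2, 2, 1], 3, 0, 0, 0),
  ([0, 0, 0, 2, 2, 0, 0], 3, 139406164093372633893412097314954742, 979605432534570124741533279212110926, 16),
  ([], 1, 24243033552532260328186959759871713, 970499966350631336865513127433832480, 1456),
  ([0, 1], 1, 0, 0, 0),
  ([2, 1, 0, 1], 3, 0, 0, 0),
  ([0, 0, 0, 2, 0, 2, 2], 1, 0, 0, 0),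
  ([2, 1, 0, 2, 0, 1], 3, 0, 0, 0),
  ([1, 0, 0, 2, 0, 2, 2], 1, 235252355705041689285843168876661472, 969160290590196632317679099582727214, 16),
  ([1, 0, 2, 0, 1], 1, 0, 0, 0)]

theorem g3A_tab : TabM24 g3AP ∧ Canon g3AP := by decide +kernel
theorem c3A_tab : TabM24 c3AP ∧ Canon c3AP := by decide +kernel
theorem valid_g3A : Valid g3AP := valid_of_tab g3A_tab.1 g3A_tab.2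
theorem valid_c3A : Valid c3AP := valid_of_tab c3A_tab.1 c3A_tab.2
theorem c3A_sq : compP c3AP c3AP = idP := by decide +kernel
theorem c3A_comm : compP c3AP g3AP = compP g3AP c3AP := by decide +kernel
theorem Q3A_nodup :
    (Q3A.flatMap fun d => (iterL g3AP d.2.1 (wordP d.1)).map keyP).Nodup :=
  nodup_of_keysH g3AP Q3A (by decide +kernel)
theorem Q3A_len : (Q3A.map fun d => d.2.1).sum = 759 := by decide +kernel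
theorem Q3A_ok : ∀ d ∈ Q3A, EntryOK g3AP c3AP d := by decide +kernel
theorem Q3A_par : (Q3A.map fun d => d.2.1 * d.2.2.2.2).sum % 2 = 0 := by decide +kernel
theorem Q3A_mem : ∀ d ∈ Q3A, d.2.2.1 ≠ 0 → (d.2.2.1, d.2.2.2.1, d.2.2.2.2) ∈ D3A := by
  decide +kernel

/-- the one-block count of the class `3A` is even, given the local counts -/
theorem even_3A (hcnt : ∀ d ∈ D3A, ∀ γ κ : Equiv.Perm GolayPt, γ ∈ M24 → Rep γ d.1 → Rep κ d.2.1 →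
      octCnt γ κ = d.2.2) :
    Even (Nat.card {x : ↥M24 // Good 2 (elt g3AP) x}) :=
  even_of_cls g3AP c3AP valid_g3A valid_c3A c3A_sq c3A_comm Q3A Q3A_nodup Q3A_len
    Q3A_ok Q3A_par
    (fun d hd h0 γ κ hγ rγ rκ => hcnt _ (Q3A_mem d hd h0) γ κ hγ rγ rκ)

end Cfsg.Agent.Lib.Helper24.M24Blk
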