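import Mathlib
import Cfsg.Agent.Lib.Helper24.M24Blk.Keys
import Cfsg.Agent.Lib.Helper24.M24Blk.Data

/-!
# Orbit data of the class `3B` of `M₂₄` on the octads (helper24)
-/

set_option autoImplicit false
set_option maxRecDepth 1000000
set_option maxHeartbeats 40000000

namespace Cfsg.Agent.Lib.Helper24.M24Blk

open Cfsg Cfsg.Agent.Lib.Helper28 Cfsg.Agent.Lib.Helper13.PackPerm Cfsg.Agent.Lib.Helper13.M22Enum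
  Cfsg.Agent.Lib.Helper20.OneBlock

/-- the class representative -/
def g3BP : ℕ := 15838368908470520400205020538375905
/-- the commuting involution (or the identity) -/
def c3BP : ℕ := 944124716589119860403280512002837644

/-- the orbit entries -/
def Q3B : List Entry := [
  ([1, 0, 2, 1, 0, 1, 0, 0, 1], 3, 0, 0, 0),
  ([2, 1, 0, 0, 0, 0, 1, 0, 0], 3, 0, 0, 0),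
  ([0, 1, 0, 0, 1, 0], 3, 0, 0, 0),
  ([1, 0, 0, 2, 1, 0, 1, 0], 3, 0, 0, 0),
  ([0, 2, 1, 0, 0, 0, 0, 1, 0, 0], 3, 0, 0, 0),
  ([0, 0, 1, 0, 0, 1, 0], 3, 0, 0, 0),
  ([2, 0, 0, 2, 0, 1, 0], 3, 0, 0, 0),
  ([1, 0, 0, 1, 0, 2, 0, 0], 3, 0, 0, 0),
  ([2, 2, 0, 2, 1, 0, 2, 2, 2, 1], 3, 0, 0, 0),
  ([2, 2, 2, 0, 1, 0], 3, 0, 0, 0),
  ([1, 0, 0, 0, 2, 2, 1], 3, 0, 0, 0),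
  ([1, 0, 0, 0, 2, 1], 3, 0, 0, 0),
  ([0, 0, 0, 1, 0, 0, 1, 0], 3, 0, 0, 0),
  ([0, 1, 0, 2, 1], 3, 0, 0, 0),
  ([2, 2, 0, 0, 0, 1, 0, 0], 3, 0, 0, 0),
  ([2, 2, 2, 0, 1, 0, 0, 1], 3, 0, 0, 0),
  ([2, 2, 0, 2, 1, 0, 0], 3, 0, 0, 0),
  ([2, 2, 2, 2, 0, 0, 1, 0], 3, 0, 0, 0),
  ([0, 2, 2, 2, 0, 1, 0], 3, 0, 0, 0),
  ([1, 0, 2, 0, 2, 1, 0, 1], 3, 0, 0, 0),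
  ([2, 2, 0, 1, 0], 3, 0, 0, 0),
  ([2, 0, 2, 1, 0, 0, 1, 0], 3, 0, 0, 0),
  ([0, 1, 0, 0, 0, 2, 1], 3, 0, 0, 0),
  ([2, 1, 0, 2, 1], 3, 0, 0, 0),
  ([2, 0, 0, 0, 1, 0, 0, 0, 0], 3, 0, 0, 0),
  ([2, 1, 0, 1, 0, 0, 0, 0, 1, 0], 3, 0, 0, 0),
  ([0, 0, 1, 0, 2, 1], 3, 0, 0, 0),
  ([0, 0, 1, 0, 0, 0, 1, 0, 1], 3, 0, 0, 0),
  ([2, 0, 0, 0, 1, 0, 0], 3, 0, 0, 0),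
  ([2, 0, 0, 0, 1, 0], 3, 0, 0, 0),
  ([1, 0, 2, 2, 2, 0, 0], 3, 0, 0, 0),
  ([0, 2, 2, 0, 2, 1, 0, 0], 3, 0, 0, 0),
  ([2, 0, 0, 0, 1, 0, 0, 1, 0], 3, 0, 0, 0),
  ([1, 0, 0], 3, 0, 0, 0),
  ([2, 0, 0, 0, 2, 1, 0, 0], 3, 0, 0, 0),
  ([0, 2, 1, 0, 0, 2, 0, 2], 3, 0, 0, 0),
  ([0, 1, 0, 2, 0, 2, 1, 0, 1], 3, 0, 0, 0),
  ([0, 2, 2, 0, 1, 0], 3, 0, 0, 0),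
  ([2, 2, 0, 1, 0, 2, 2], 3, 0, 0, 0),
  ([0, 2, 1, 0, 0, 0], 3, 0, 0, 0),
  ([2, 2, 1, 0, 2, 2, 0, 1], 3, 0, 0, 0),
  ([0, 0, 1, 0, 0, 0, 2, 1], 3, 0, 0, 0),
  ([0, 2, 1, 0, 2, 1], 3, 0, 0, 0),
  ([2, 2, 0, 1, 0, 0, 0, 1], 3, 0, 0, 0),
  ([0, 1, 0, 2, 0, 1, 0, 0, 1], 3, 0, 0, 0),
  ([2, 2, 0, 0, 1, 0, 0, 1], 3, 0, 0, 0),
  ([2, 1, 0, 2, 0, 2, 1], 3, 0, 0, 0),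
  ([0, 0, 0, 1, 0, 2, 1], 3, 0, 0, 0),
  ([1, 0, 0, 0, 0, 0, 1, 0, 0], 3, 0, 0, 0),
  ([2, 0, 1, 0, 2, 2], 3, 0, 0, 0),
  ([0, 2, 0, 0, 0, 1, 0, 0], 3, 0, 0, 0),
  ([2, 1, 0, 0, 0, 0, 1], 3, 0, 0, 0),
  ([1, 0, 0, 2, 1, 0, 0], 3, 0, 0, 0),
  ([2, 0, 1, 0], 3, 0, 0, 0),
  ([0, 1, 0, 2, 2, 2, 0, 0], 3, 0, 0, 0),
  ([1, 0, 0, 0, 2, 1, 0, 0, 0], 3, 0, 0, 0),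
  ([0, 1, 0, 0, 0, 1, 0, 2], 3, 177286403934757018905199502182029845, 213670958863309626040359401650458065, 64),
  ([2, 0, 2, 1, 0, 0], 3, 0, 0, 0),
  ([2, 1, 0, 2, 0, 0, 2, 2, 0, 0], 3, 0, 0, 0),
  ([0, 1, 0, 0], 3, 0, 0, 0),
  ([0, 0, 1, 0, 2, 1, 0, 2], 3, 0, 0, 0),
  ([0, 2, 0, 0, 0, 2, 1, 0, 0], 3, 0, 0, 0),
  ([2, 0, 2, 0, 2, 2, 0, 1, 0, 0], 3, 0, 0, 0),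
  ([0, 0, 2, 2, 0, 1, 0], 3, 0, 0, 0),
  ([2, 0, 2, 2, 2, 0, 1, 0], 3, 0, 0, 0),
  ([2, 0, 1, 0, 2, 0, 0, 1], 3, 0, 0, 0),
  ([1, 0, 1, 0, 0, 0, 0, 1, 0], 3, 0, 0, 0),
  ([0, 0, 2, 1, 0, 0, 0], 3, 0, 0, 0),
  ([2, 1, 0, 0, 0, 2, 1], 3, 0, 0, 0),
  ([2, 0, 1, 0, 2], 3, 0, 0, 0),
  ([1, 0, 2, 0, 2, 1], 3, 0, 0, 0),
  ([1, 0, 0, 0, 0, 1, 0, 0], 3, 0, 0, 0),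
  ([0, 0, 2, 1, 0, 2, 1], 3, 0, 0, 0),
  ([1, 0, 0, 0, 0, 1, 0, 1], 3, 0, 0, 0),
  ([2, 0, 2, 2, 1, 0, 0, 0], 3, 0, 0, 0),
  ([2, 0, 0, 0, 1, 0, 2, 1], 3, 0, 0, 0),
  ([0, 2, 2, 0, 0, 1, 0, 0, 1], 3, 296653940946653642895852771298934964, 222808969314877183791198688830834115, 48),
  ([2, 1, 0, 2, 1, 0, 1], 3, 0, 0, 0),
  ([2, 1, 0, 0, 1, 0], 3, 0, 0, 0),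
  ([0, 0, 1, 0, 2, 2], 3, 0, 0, 0),
  ([0, 0, 0, 0, 1, 0, 2, 1], 3, 0, 0, 0),
  ([2, 1, 0, 0], 3, 0, 0, 0),
  ([0, 2, 0, 1, 0, 2, 2], 3, 0, 0, 0),
  ([2, 2, 0, 0, 0, 0, 1, 0, 0], 3, 0, 0, 0),
  ([2, 2, 1, 0, 0, 0], 3, 0, 0, 0),
  ([1, 0, 0, 1, 0, 0, 0], 3, 0, 0, 0),
  ([1, 0, 0, 2, 0, 1, 0, 0], 3, 0, 0, 0),
  ([0, 2, 0, 1, 0], 3, 0, 0, 0),
  ([2, 1, 0, 1, 0, 0, 0, 0, 0], 3, 0, 0, 0),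
  ([0, 0, 1, 0, 2], 3, 0, 0, 0),
  ([2, 2, 0, 2, 1, 0, 2, 2], 3, 0, 0, 0),
  ([0, 0, 0, 0, 2, 1, 0, 0], 3, 0, 0, 0),
  ([2, 1, 0, 2, 2, 2, 0, 0], 3, 0, 0, 0),
  ([0, 0, 1, 0, 2, 0, 0, 0], 3, 0, 0, 0),
  ([0, 0, 1, 0, 0, 0, 1, 0, 2], 3, 0, 0, 0),
  ([0, 2, 0, 2, 1, 0, 0], 3, 0, 0, 0),
  ([1, 0, 0, 0, 0], 3, 0, 0, 0),
  ([2, 1, 0, 0, 0, 2, 1, 0, 0, 0], 3, 0, 0, 0),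
  ([0, 0, 1, 0, 0], 3, 0, 0, 0),
  ([2, 2, 2, 1, 0, 0, 0, 1, 0], 3, 0, 0, 0),
  ([2, 2, 2, 0, 2, 0, 1, 0, 0], 3, 0, 0, 0),
  ([0, 2, 0, 0, 1, 0, 2], 3, 0, 0, 0),
  ([2, 2, 1, 0, 2, 0, 2, 1], 3, 0, 0, 0),
  ([0, 0, 0, 2, 2, 0, 1, 0], 3, 0, 0, 0),
  ([2, 0, 2, 1, 0, 0, 0], 3, 0, 0, 0),
  ([0, 2, 0, 2, 2, 2, 0, 1, 0], 3, 0, 0, 0),
  ([1, 0, 2, 2, 0, 0, 0, 0, 0], 3, 0, 0, 0),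
  ([2, 2, 0, 2, 1, 0, 2, 1], 3, 0, 0, 0),
  ([1, 0, 0, 0, 1, 0], 3, 0, 0, 0),
  ([0, 0, 0, 2, 1, 0, 0, 0], 3, 0, 0, 0),
  ([2, 0, 1, 0, 2, 1], 3, 890734000704220222301233635155098896, 95384706698037412598025135171099749, 48),
  ([0, 2, 0, 1, 0, 2], 3, 0, 0, 0),
  ([2, 0, 0, 2, 0, 0, 1, 0], 3, 0, 0, 0),
  ([1, 0, 0, 2, 1], 3, 0, 0, 0),
  ([0, 0, 0, 2, 1, 0, 2, 1], 3, 0, 0, 0),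
  ([2, 0, 0, 1, 0, 0, 1, 0], 3, 0, 0, 0),
  ([0, 2, 0, 2, 2, 1, 0, 0, 0], 3, 0, 0, 0),
  ([0, 1, 0, 0, 1], 3, 0, 0, 0),
  ([1, 0, 0, 0, 2, 0, 2], 3, 0, 0, 0),
  ([0, 2, 0, 1, 0, 2, 0, 1, 0], 3, 0, 0, 0),
  ([2, 2, 2, 1, 0, 2, 1, 0, 1], 3, 0, 0, 0),
  ([0, 2, 1, 0, 2, 1, 0, 1], 3, 345342437274831066350362815892173110, 66948061217948495928725947170229998, 64),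
  ([0, 2, 1, 0, 0, 1, 0], 3, 0, 0, 0),
  ([1, 0, 0, 2, 2, 2, 1], 3, 0, 0, 0),
  ([0, 0, 0, 1, 0, 2, 2], 3, 0, 0, 0),
  ([0, 0, 0, 0, 0, 1, 0, 2, 1], 3, 0, 0, 0),
  ([1, 0, 0, 1, 0, 0, 2], 3, 0, 0, 0),
  ([1, 0, 0, 2, 2, 1, 0, 0, 0], 3, 0, 0, 0),
  ([2, 2, 0, 1, 0, 0, 1], 3, 0, 0, 0),
  ([0, 2, 1, 0, 0], 3, 0, 0, 0),
  ([2, 0, 0, 2, 2, 1, 0, 0, 0], 3, 0, 0, 0),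
  ([0, 2, 2, 1, 0, 0, 0], 3, 0, 0, 0),
  ([0, 0, 1, 0, 2, 0, 1, 0], 3, 0, 0, 0),
  ([0, 1, 0, 2, 2, 0, 1], 3, 0, 0, 0),
  ([0, 1, 0, 0, 1, 0, 0, 0], 3, 0, 0, 0),
  ([2, 1, 0, 1, 0, 0], 3, 0, 0, 0),
  ([1, 0, 0, 0, 0, 1], 3, 0, 0, 0),
  ([0, 0, 2, 0, 1, 0], 3, 0, 0, 0),
  ([2, 1, 0, 1, 0, 0, 2, 1], 3, 0, 0, 0),
  ([2, 2, 2, 2, 1, 0, 0], 3, 0, 0, 0),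
  ([0, 0, 0, 1, 0, 0, 0, 0, 1], 3, 0, 0, 0),
  ([2, 0, 0, 1, 0, 0, 1], 3, 0, 0, 0),
  ([2, 1, 0, 1, 0, 0, 0, 1], 3, 0, 0, 0),
  ([2, 2, 0, 2, 0, 1, 0, 0], 3, 0, 0, 0),
  ([2, 0, 2, 1, 0, 2, 2], 3, 0, 0, 0),
  ([0, 0, 0, 0, 0, 2, 0, 1, 0], 3, 0, 0, 0),
  ([0, 1, 0, 0, 0, 0], 3, 0, 0, 0),
  ([0, 0, 0, 2, 2, 1, 0, 2, 1], 3, 0, 0, 0),
  ([1, 0, 2, 0, 2, 1, 0, 0], 3, 0, 0, 0),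
  ([0, 0, 0, 1, 0, 0], 3, 0, 0, 0),
  ([0, 1, 0], 3, 914259606066306724050039340460590551, 596366844051235442731031181682347009, 48),
  ([2, 0, 1, 0, 0, 0, 0, 0], 3, 0, 0, 0),
  ([1, 0, 2, 2, 0, 0, 0], 3, 0, 0, 0),
  ([2, 1, 0, 2], 3, 0, 0, 0),
  ([0, 2, 2, 0, 0, 0, 1, 0, 0, 0, 0], 3, 0, 0, 0),
  ([2, 1, 0, 0, 1, 0, 0], 3, 0, 0, 0),
  ([1, 0, 2, 0, 1, 0, 0, 2], 3, 0, 0, 0),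
  ([1, 0, 0, 2, 0, 1, 0, 2], 3, 0, 0, 0),
  ([2, 2, 0, 0, 1, 0], 3, 0, 0, 0),
  ([1, 0, 2, 0, 2, 2, 0, 0], 3, 0, 0, 0),
  ([1, 0, 0, 0, 0, 0], 3, 0, 0, 0),
  ([2, 0, 0, 1, 0, 0, 0, 0, 0], 3, 0, 0, 0),
  ([0, 2, 0, 1, 0, 2, 1], 3, 0, 0, 0),
  ([1, 0, 0, 0], 3, 0, 0, 0),
  ([0, 1, 0, 2, 0, 2, 2, 1], 3, 0, 0, 0),
  ([0, 2, 2, 0, 0, 0, 1, 0], 3, 0, 0, 0),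
  ([0, 1, 0, 0, 2, 1], 3, 0, 0, 0),
  ([0, 0, 1, 0, 0, 1], 3, 0, 0, 0),
  ([2, 0, 2, 2, 0, 1, 0, 0], 3, 0, 0, 0),
  ([2, 0, 1, 0, 0, 2, 0, 1, 0], 3, 0, 0, 0),
  ([2, 2, 0, 1, 0, 2, 0, 2, 2, 1], 3, 0, 0, 0),
  ([0, 1, 0, 0, 0, 2, 0, 2], 3, 0, 0, 0),
  ([0, 2, 2, 0, 2, 0, 1, 0], 3, 0, 0, 0),
  ([2, 1, 0, 2, 0, 1, 0], 3, 0, 0, 0),
  ([0, 2, 0, 0, 0, 0, 1, 0], 3, 0, 0, 0),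
  ([1, 0, 2, 0, 0, 1], 3, 0, 0, 0),
  ([0, 0, 0, 2, 0, 0, 1, 0], 3, 0, 0, 0),
  ([0, 1, 0, 0, 2, 2, 2, 1], 3, 0, 0, 0),
  ([0, 0, 0, 2, 0, 1, 0, 0, 0], 3, 0, 0, 0),
  ([0, 0, 0, 0, 1, 0, 2, 2], 3, 0, 0, 0),
  ([2, 0, 2, 1, 0, 2, 0, 1, 0], 3, 0, 0, 0),
  ([2, 0, 0, 2, 0, 1, 0, 0, 1], 3, 0, 0, 0),
  ([0, 1, 0, 0, 1, 0, 0, 2], 3, 0, 0, 0),
  ([2, 0, 0, 2, 1, 0, 2, 1], 3, 0, 0, 0),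
  ([1, 0, 2, 0, 0, 0], 3, 0, 0, 0),
  ([2, 2, 1, 0, 2, 1], 3, 0, 0, 0),
  ([2, 1, 0, 1, 0, 0, 0], 3, 0, 0, 0),
  ([0, 2, 1, 0, 2, 1, 0, 1, 0], 3, 0, 0, 0),
  ([2, 2, 2, 0, 2, 1, 0, 0], 3, 0, 0, 0),
  ([0, 0, 1, 0, 2, 2, 0, 1], 3, 0, 0, 0),
  ([2, 0, 1, 0, 2, 0, 0, 0], 3, 0, 0, 0),
  ([2, 2, 2, 2, 0, 1, 0], 3, 0, 0, 0),
  ([1, 0, 0, 0, 1], 3, 0, 0, 0),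
  ([0, 1, 0, 0, 2, 2, 1], 3, 0, 0, 0),
  ([0, 0, 0, 0, 1, 0, 0, 0, 0], 3, 0, 0, 0),
  ([0, 1, 0, 2, 1, 0, 1], 3, 0, 0, 0),
  ([0, 1, 0, 2, 2, 1, 0, 0, 0], 3, 0, 0, 0),
  ([2, 1, 0, 0, 2, 1, 0, 0], 3, 0, 0, 0),
  ([0, 0, 0, 0, 0, 0, 2, 0, 1, 0], 3, 0, 0, 0),
  ([1, 0, 2, 0, 0, 0, 2, 1], 3, 0, 0, 0),
  ([2, 0, 2, 0, 0, 0, 1, 0, 0], 3, 0, 0, 0),
  ([1, 0, 2, 0, 2, 2, 2, 1], 3, 0, 0, 0),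
  ([0, 0, 0, 0, 1, 0], 3, 0, 0, 0),
  ([0, 2, 1, 0, 2], 3, 0, 0, 0),
  ([1, 0, 2, 2, 1, 0, 1, 0, 0, 0], 3, 0, 0, 0),
  ([0, 1, 0, 0, 0, 2, 0, 0], 3, 0, 0, 0),
  ([2, 2, 2, 2, 0, 2, 1, 0, 0], 3, 0, 0, 0),
  ([1, 0, 2, 1, 0, 1, 0], 3, 0, 0, 0),
  ([0, 2, 1, 0, 2, 2], 3, 0, 0, 0),
  ([0, 1, 0, 2, 1, 0, 2, 1], 3, 0, 0, 0),
  ([2, 0, 2, 0, 0, 0, 0, 1, 0], 3, 0, 0, 0),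
  ([2, 0, 1, 0, 0, 0], 3, 0, 0, 0),
  ([0, 0, 2, 0, 2, 0, 1, 0], 3, 0, 0, 0),
  ([2, 0, 1, 0, 2, 1, 0, 2, 1], 3, 0, 0, 0),
  ([0, 2, 1, 0, 2, 0, 0, 0], 3, 0, 0, 0),
  ([1, 0, 2, 1, 0, 2, 0, 1], 3, 0, 0, 0),
  ([1, 0, 0, 1, 0], 3, 0, 0, 0),
  ([2, 2, 0, 1, 0, 2, 1], 3, 0, 0, 0),
  ([0, 1, 0, 2, 2, 2, 1], 3, 0, 0, 0),
  ([0, 2, 0, 2, 2, 0, 1, 0, 0], 3, 0, 0, 0),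
  ([0, 1, 0, 0, 0, 1, 0, 1], 3, 0, 0, 0),
  ([2, 0, 2, 0, 2, 0, 1, 0], 3, 0, 0, 0),
  ([0, 1, 0, 2, 0, 0, 1], 3, 0, 0, 0),
  ([0, 1, 0, 2, 1, 0, 2], 3, 0, 0, 0),
  ([2, 2, 2, 1, 0, 0, 0], 3, 0, 0, 0),
  ([0, 1, 0, 2, 2], 3, 0, 0, 0),
  ([0, 1, 0, 2], 3, 0, 0, 0),
  ([0, 0, 0, 2, 1, 0, 0], 3, 0, 0, 0),
  ([2, 0, 1, 0, 2, 0, 2, 2, 1], 3, 0, 0, 0),
  ([1, 0, 1, 0, 0, 0, 0, 0], 3, 0, 0, 0),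
  ([1, 0, 2, 0, 0, 2, 2, 0, 0], 3, 0, 0, 0),
  ([0, 2, 2, 0, 2, 0, 0, 1, 0], 3, 0, 0, 0),
  ([1, 0, 0, 1], 3, 0, 0, 0),
  ([2, 0, 1, 0, 2, 0, 1, 0], 3, 0, 0, 0),
  ([2, 2, 1, 0, 2, 0, 0, 0], 3, 0, 0, 0),
  ([0, 1, 0, 0, 0, 1], 3, 0, 0, 0),
  ([2, 0, 2, 2, 1, 0, 2, 0, 1, 0], 3, 0, 0, 0),
  ([0, 0, 2, 0, 0, 1, 0], 3, 0, 0, 0),
  ([2, 1, 0, 2, 0, 1, 0, 1], 3, 0, 0, 0),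
  ([2, 0, 1, 0, 2, 2, 1, 0, 0, 0], 3, 0, 0, 0),
  ([0, 2, 0, 2, 0, 1, 0], 3, 0, 0, 0),
  ([0, 0, 1, 0, 2, 0, 1, 0, 1], 3, 0, 0, 0),
  ([1, 0, 2, 2, 2, 1], 3, 0, 0, 0),
  ([1, 0, 2], 3, 0, 0, 0),
  ([2, 2, 1, 0, 2, 2, 2, 0, 0], 3, 0, 0, 0),
  ([0, 1, 0, 2, 0, 1, 0, 1], 3, 0, 0, 0),
  ([2, 2, 2, 2, 0, 2, 2, 1], 3, 0, 0, 0),
  ([0, 0, 2, 0, 0], 3, 0, 0, 0),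
  ([2, 2, 2, 1], 3, 0, 0, 0),
  ([0, 0, 0, 2, 2, 0, 0], 3, 0, 0, 0),
  ([], 3, 0, 0, 0),
  ([0, 0, 1, 0, 1], 3, 0, 0, 0),
  ([2, 1, 0, 1], 3, 0, 0, 0)]

theorem g3B_tab : TabM24 g3BP ∧ Canon g3BP := by decide +kernel
theorem c3B_tab : TabM24 c3BP ∧ Canon c3BP := by decide +kernel
theorem valid_g3B : Valid g3BP := valid_of_tab g3B_tab.1 g3B_tab.2
theorem valid_c3B : Valid c3BP := valid_of_tab c3B_tab.1 c3B_tab.2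
theorem c3B_sq : compP c3BP c3BP = idP := by decide +kernel
theorem c3B_comm : compP c3BP g3BP = compP g3BP c3BP := by decide +kernel
theorem Q3B_nodup :
    (Q3B.flatMap fun d => (iterL g3BP d.2.1 (wordP d.1)).map keyP).Nodup :=
  nodup_of_keysH g3BP Q3B (by decide +kernel)
theorem Q3B_len : (Q3B.map fun d => d.2.1).sum = 759 := by decide +kernel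
theorem Q3B_ok : ∀ d ∈ Q3B, EntryOK g3BP c3BP d := by decide +kernel
theorem Q3B_par : (Q3B.map fun d => d.2.1 * d.2.2.2.2).sum % 2 = 0 := by decide +kernel
theorem Q3B_mem : ∀ d ∈ Q3B, d.2.2.1 ≠ 0 → (d.2.2.1, d.2.2.2.1, d.2.2.2.2) ∈ D3B := by
  decide +kernel

/-- the one-block count of the class `3B` is even, given the local counts -/
theorem even_3B (hcnt : ∀ d ∈ D3B, ∀ γ κ : Equiv.Perm GolayPt, γ ∈ M24 → Rep γ d.1 → Rep κ d.2.1 →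
      octCnt γ κ = d.2.2) :
    Even (Nat.card {x : ↥M24 // Good 2 (elt g3BP) x}) :=
  even_of_cls g3BP c3BP valid_g3B valid_c3B c3B_sq c3B_comm Q3B Q3B_nodup Q3B_len
    Q3B_ok Q3B_par
    (fun d hd h0 γ κ hγ rγ rκ => hcnt _ (Q3B_mem d hd h0) γ κ hγ rγ rκ)

end Cfsg.Agent.Lib.Helper24.M24Blk
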