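import Mathlib
import Cfsg.Agent.Lib.Helper24.M24Blk.Keys
import Cfsg.Agent.Lib.Helper24.M24Blk.Data

/-!
# Orbit data of the class `5A` of `M₂₄` on the octads (helper24)
-/

set_option autoImplicit false
set_option maxRecDepth 1000000
set_option maxHeartbeats 40000000

namespace Cfsg.Agent.Lib.Helper24.M24Blk

open Cfsg Cfsg.Agent.Lib.Helper28 Cfsg.Agent.Lib.Helper13.PackPerm Cfsg.Agent.Lib.Helper13.M22Enum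
  Cfsg.Agent.Lib.Helper20.OneBlock

/-- the class representative -/
def g5AP : ℕ := 974380510768821363662145534143076928
/-- the commuting involution (or the identity) -/
def c5AP : ℕ := 1795248432537898728475572672376535

/-- the orbit entries -/
def Q5A : List Entry := [
  ([1, 0, 2, 1, 0, 1, 0, 0, 1], 5, 0, 0, 0),
  ([2, 1, 0, 0, 0, 0, 1, 0, 0], 5, 0, 0, 0),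
  ([0, 1, 0, 0, 1, 0], 5, 0, 0, 0),
  ([1, 0, 0, 2, 1, 0, 1, 0], 5, 0, 0, 0),
  ([0, 2, 1, 0, 0, 0, 0, 1, 0, 0], 5, 0, 0, 0),
  ([0, 0, 1, 0, 0, 1, 0], 5, 0, 0, 0),
  ([2, 0, 0, 2, 0, 1, 0], 5, 0, 0, 0),
  ([1, 0, 0, 1, 0, 2, 0, 0], 5, 0, 0, 0),
  ([2, 2, 0, 2, 1, 0, 2, 2, 2, 1], 5, 0, 0, 0),
  ([2, 2, 2, 0, 1, 0], 5, 0, 0, 0),
  ([1, 0, 0, 0, 2, 2, 1], 5, 0, 0, 0),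
  ([0, 0, 0, 1, 0, 0, 1, 0], 5, 0, 0, 0),
  ([0, 1, 0, 2, 1], 5, 0, 0, 0),
  ([2, 2, 0, 0, 0, 1, 0, 0], 5, 0, 0, 0),
  ([2, 2, 2, 0, 1, 0, 0, 1], 5, 0, 0, 0),
  ([2, 2, 0, 2, 1, 0, 0], 5, 0, 0, 0),
  ([2, 2, 2, 2, 0, 0, 1, 0], 5, 0, 0, 0),
  ([0, 2, 2, 2, 0, 1, 0], 5, 0, 0, 0),
  ([1, 0, 2, 0, 2, 1, 0, 1], 5, 0, 0, 0),
  ([2, 0, 2, 1, 0, 0, 1, 0], 5, 0, 0, 0),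
  ([0, 1, 0, 0, 0, 2, 1], 5, 0, 0, 0),
  ([2, 1, 0, 2, 1], 5, 0, 0, 0),
  ([2, 0, 0, 0, 1, 0, 0, 0, 0], 5, 0, 0, 0),
  ([2, 1, 0, 1, 0, 0, 0, 0, 1, 0], 5, 0, 0, 0),
  ([0, 0, 1, 0, 2, 1], 5, 0, 0, 0),
  ([2, 0, 0, 0, 1, 0], 5, 0, 0, 0),
  ([1, 0, 2, 2, 2, 0, 0], 5, 0, 0, 0),
  ([0, 2, 2, 0, 2, 1, 0, 0], 5, 0, 0, 0),
  ([1, 0, 0], 5, 0, 0, 0),
  ([2, 0, 0, 0, 2, 1, 0, 0], 5, 0, 0, 0),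
  ([0, 2, 1, 0, 0, 2, 0, 2], 5, 0, 0, 0),
  ([0, 1, 0, 2, 0, 2, 1, 0, 1], 5, 0, 0, 0),
  ([0, 2, 2, 0, 1, 0], 5, 0, 0, 0),
  ([2, 2, 0, 1, 0, 2, 2], 5, 0, 0, 0),
  ([0, 2, 0, 2, 1, 0, 0, 1, 0], 5, 940522051456678680387412036606526597, 47522527602624033406300578063238894, 48),
  ([0, 2, 1, 0, 0, 0], 5, 0, 0, 0),
  ([0, 2, 1, 0, 2, 1], 5, 0, 0, 0),
  ([2, 2, 0, 1, 0, 0, 0, 1], 5, 0, 0, 0),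
  ([2, 2, 0, 0, 1, 0, 0, 1], 5, 0, 0, 0),
  ([2, 1, 0, 2, 0, 2, 1], 5, 0, 0, 0),
  ([0, 0, 0, 1, 0, 2, 1], 5, 0, 0, 0),
  ([0, 2, 0, 0, 0, 1, 0, 0], 5, 0, 0, 0),
  ([2, 1, 0, 0, 0, 0, 1], 5, 0, 0, 0),
  ([1, 0, 0, 2, 1, 0, 0], 5, 0, 0, 0),
  ([1, 0, 0, 0, 2, 1, 0, 0, 0], 5, 0, 0, 0),
  ([2, 1, 0, 2, 0, 0, 2, 2, 0, 0], 5, 0, 0, 0),
  ([0, 1, 0, 0], 5, 0, 0, 0),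
  ([0, 0, 1, 0, 2, 1, 0, 2], 5, 0, 0, 0),
  ([0, 0, 2, 2, 0, 1, 0], 5, 0, 0, 0),
  ([2, 0, 1, 0, 2, 0, 0, 1], 5, 0, 0, 0),
  ([2, 0, 1, 0, 2], 5, 0, 0, 0),
  ([0, 0, 2, 1, 0, 2, 1], 5, 0, 0, 0),
  ([2, 0, 2, 2, 1, 0, 0, 0], 5, 0, 0, 0),
  ([2, 1, 0, 2, 1, 0, 1], 5, 0, 0, 0),
  ([2, 1, 0, 0, 1, 0], 5, 0, 0, 0),
  ([0, 0, 1, 0, 2, 2], 5, 0, 0, 0),
  ([0, 0, 0, 0, 1, 0, 2, 1], 5, 0, 0, 0),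
  ([1, 0, 0, 1, 0, 0, 0, 2, 1], 5, 0, 0, 0),
  ([0, 2, 0, 1, 0, 2, 2], 5, 0, 0, 0),
  ([2, 2, 0, 0, 0, 0, 1, 0, 0], 5, 0, 0, 0),
  ([2, 2, 1, 0, 0, 0], 5, 0, 0, 0),
  ([0, 1, 0, 2, 0, 1, 0], 5, 0, 0, 0),
  ([0, 2, 0, 1, 0], 5, 0, 0, 0),
  ([2, 2, 0, 2, 1, 0, 2, 2], 5, 0, 0, 0),
  ([0, 0, 1, 0, 0, 0, 1, 0, 2], 5, 0, 0, 0),
  ([0, 2, 0, 2, 1, 0, 0], 5, 0, 0, 0),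
  ([1, 0, 0, 0, 0], 5, 0, 0, 0),
  ([0, 0, 2, 2, 1, 0, 2, 1], 5, 0, 0, 0),
  ([2, 2, 2, 1, 0, 0, 0, 1, 0], 5, 0, 0, 0),
  ([2, 2, 2, 0, 2, 0, 1, 0, 0], 5, 630421183756431964759754592921065832, 726133741019208874699259733853274274, 48),
  ([0, 2, 0, 0, 1, 0, 2], 5, 0, 0, 0),
  ([0, 0, 0, 2, 2, 0, 1, 0], 5, 0, 0, 0),
  ([0, 2, 0, 2, 2, 2, 0, 1, 0], 5, 0, 0, 0),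
  ([0, 0, 0, 2, 1, 0, 0, 0], 5, 0, 0, 0),
  ([0, 2, 0, 1, 0, 0, 0, 0], 5, 0, 0, 0),
  ([1, 0, 0, 2, 1], 5, 0, 0, 0),
  ([0, 2, 0, 2, 2, 1, 0, 0, 0], 5, 0, 0, 0),
  ([2, 2, 0, 1, 0, 0, 0], 5, 0, 0, 0),
  ([1, 0, 0, 1, 0, 0, 2], 5, 0, 0, 0),
  ([1, 0, 0, 2, 2, 1, 0, 0, 0], 5, 0, 0, 0),
  ([2, 1, 0, 0, 2, 0, 0, 1], 5, 0, 0, 0),
  ([0, 1, 0, 2, 2, 0, 1], 5, 0, 0, 0),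
  ([0, 1, 0, 0, 1, 0, 0, 0], 5, 0, 0, 0),
  ([2, 0, 2, 2, 2, 0, 1, 0, 0], 5, 0, 0, 0),
  ([2, 2, 1, 0, 1, 0, 0, 0], 5, 0, 0, 0),
  ([2, 1, 0, 1, 0, 0, 2, 1], 5, 0, 0, 0),
  ([2, 1, 0, 1, 0, 0, 0, 1], 5, 0, 0, 0),
  ([2, 0, 1, 0, 0, 0, 0, 0], 5, 0, 0, 0),
  ([2, 2, 1, 0, 2, 0, 1, 0], 5, 0, 0, 0),
  ([1, 0, 0, 2, 0, 1, 0, 2], 5, 0, 0, 0),
  ([2, 1, 0, 2, 2, 2, 1], 5, 0, 0, 0),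
  ([2, 1, 0, 2, 1, 0, 0], 5, 0, 0, 0),
  ([2, 0, 0, 2, 1, 0, 0], 5, 0, 0, 0),
  ([1, 0, 0, 2, 2, 0, 1, 0], 5, 0, 0, 0),
  ([0, 0, 2, 0, 1, 0, 2], 5, 0, 0, 0),
  ([2, 0, 2, 1, 0, 2, 1, 0, 0], 5, 0, 0, 0),
  ([0, 1, 0, 2, 0, 2, 2, 1], 5, 0, 0, 0),
  ([2, 1, 0, 1, 0, 2, 0, 0, 0], 5, 0, 0, 0),
  ([2, 2, 0, 2, 0, 0, 1, 0], 5, 0, 0, 0),
  ([1, 0, 0, 0, 1, 0, 0], 5, 0, 0, 0),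
  ([2, 0, 0, 0, 1, 0, 0, 1], 5, 0, 0, 0),
  ([1, 0], 1, 0, 0, 0),
  ([0, 2, 2, 2, 0, 0, 0], 5, 0, 0, 0),
  ([0, 0, 2, 2, 2, 0, 0, 0], 5, 0, 0, 0),
  ([2, 2, 2, 2, 0, 2, 2, 1], 5, 0, 0, 0),
  ([0, 0, 0, 2, 2, 2, 0, 0, 0], 5, 0, 0, 0),
  ([2, 2, 0, 1, 0, 2, 0, 0], 5, 0, 0, 0),
  ([2, 1, 0, 0, 2, 0, 0], 5, 0, 0, 0),
  ([2, 2, 2, 0, 0, 2, 0, 0, 1], 5, 0, 0, 0),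
  ([0, 0, 2, 0, 0], 5, 0, 0, 0),
  ([2, 2, 2, 0, 2, 1], 5, 0, 0, 0),
  ([2, 0, 2, 0, 0, 0, 0, 1], 5, 983340740526673150245839080407541088, 589998088068084191074240023961277987, 48),
  ([2, 2, 0, 2, 1, 0, 1], 5, 0, 0, 0),
  ([1, 0, 2, 1, 0, 0, 0, 1, 0], 5, 0, 0, 0),
  ([0, 2, 2, 2, 0, 2, 1], 5, 0, 0, 0),
  ([2, 0, 0, 2, 0, 2, 2], 5, 0, 0, 0),
  ([0, 2, 2, 0, 2, 1, 0, 1], 5, 0, 0, 0),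
  ([2, 2, 2, 1, 0, 1, 0, 0, 1], 5, 0, 0, 0),
  ([1, 0, 2, 0, 2, 2, 2, 0, 0], 1, 0, 0, 0),
  ([2, 2, 2, 1], 5, 0, 0, 0),
  ([0, 0, 0, 2, 2, 0, 0], 5, 0, 0, 0),
  ([], 5, 0, 0, 0),
  ([0, 0, 2, 2, 2, 0, 2, 1], 5, 0, 0, 0),
  ([2, 2, 0, 2, 0, 1], 5, 0, 0, 0),
  ([2, 1, 0, 0, 0, 0, 1, 0], 5, 0, 0, 0),
  ([2, 0, 1, 0, 0, 0, 0, 1, 0], 5, 0, 0, 0),
  ([2, 2, 0, 0, 0, 2, 0, 0, 1], 5, 0, 0, 0),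
  ([2, 2, 0, 2, 0, 2, 2, 0, 1], 5, 0, 0, 0),
  ([2, 2, 2, 2, 0, 0], 5, 0, 0, 0),
  ([2, 0, 0, 2, 0, 2], 5, 0, 0, 0),
  ([0], 1, 0, 0, 0),
  ([0, 2, 2, 0, 2, 0, 1], 5, 0, 0, 0),
  ([2, 0, 0, 1, 0, 2, 0, 1], 5, 0, 0, 0),
  ([2, 2, 1, 0, 1], 5, 0, 0, 0),
  ([1, 0, 2, 0, 2, 0, 1, 0], 5, 0, 0, 0),
  ([2, 0, 2, 0, 0, 2, 2, 0, 0], 5, 0, 0, 0),
  ([0, 2, 0, 0, 0, 1, 0, 1], 5, 0, 0, 0),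
  ([2, 0, 2, 0, 0, 0], 5, 0, 0, 0),
  ([0, 2, 0, 2, 2, 1], 5, 0, 0, 0),
  ([0, 2, 1, 0, 1, 0, 1], 5, 0, 0, 0),
  ([0, 1], 5, 0, 0, 0),
  ([0, 2, 0, 2, 2, 2, 1], 5, 0, 0, 0),
  ([2, 2, 1, 0, 1, 0], 5, 0, 0, 0),
  ([0, 0, 1, 0, 0, 0, 0, 1, 0], 5, 0, 0, 0),
  ([2, 0, 0, 1], 5, 0, 0, 0),
  ([2, 0, 1, 0, 1], 5, 0, 0, 0),
  ([0, 0, 2, 2, 2, 2, 0, 0], 5, 0, 0, 0),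
  ([0, 0, 2, 0, 0, 0, 1, 0, 1], 5, 0, 0, 0),
  ([2, 0, 2, 2, 0, 0], 5, 0, 0, 0),
  ([0, 0, 0], 5, 0, 0, 0),
  ([0, 0, 2, 0, 2, 1], 5, 0, 0, 0),
  ([0, 2, 0, 0, 1], 5, 0, 0, 0),
  ([0, 2, 0, 0, 1, 0, 1], 5, 0, 0, 0),
  ([2, 2, 2, 0, 2, 0, 2, 1], 5, 0, 0, 0),
  ([0, 2, 0, 2, 2, 2, 0, 0], 1, 0, 0, 0)]

theorem g5A_tab : TabM24 g5AP ∧ Canon g5AP := by decide +kernel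
theorem c5A_tab : TabM24 c5AP ∧ Canon c5AP := by decide +kernel
theorem valid_g5A : Valid g5AP := valid_of_tab g5A_tab.1 g5A_tab.2
theorem valid_c5A : Valid c5AP := valid_of_tab c5A_tab.1 c5A_tab.2
theorem c5A_sq : compP c5AP c5AP = idP := by decide +kernel
theorem c5A_comm : compP c5AP g5AP = compP g5AP c5AP := by decide +kernel
theorem Q5A_nodup :
    (Q5A.flatMap fun d => (iterL g5AP d.2.1 (wordP d.1)).map keyP).Nodup :=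
  nodup_of_keysH g5AP Q5A (by decide +kernel)
theorem Q5A_len : (Q5A.map fun d => d.2.1).sum = 759 := by decide +kernel
theorem Q5A_ok : ∀ d ∈ Q5A, EntryOK g5AP c5AP d := by decide +kernel
theorem Q5A_par : (Q5A.map fun d => d.2.1 * d.2.2.2.2).sum % 2 = 0 := by decide +kernel
theorem Q5A_mem : ∀ d ∈ Q5A, d.2.2.1 ≠ 0 → (d.2.2.1, d.2.2.2.1, d.2.2.2.2) ∈ D5A := by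
  decide +kernel

/-- the one-block count of the class `5A` is even, given the local counts -/
theorem even_5A (hcnt : ∀ d ∈ D5A, ∀ γ κ : Equiv.Perm GolayPt, γ ∈ M24 → Rep γ d.1 → Rep κ d.2.1 →
      octCnt γ κ = d.2.2) :
    Even (Nat.card {x : ↥M24 // Good 2 (elt g5AP) x}) :=
  even_of_cls g5AP c5AP valid_g5A valid_c5A c5A_sq c5A_comm Q5A Q5A_nodup Q5A_len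
    Q5A_ok Q5A_par
    (fun d hd h0 γ κ hγ rγ rκ => hcnt _ (Q5A_mem d hd h0) γ κ hγ rγ rκ)

end Cfsg.Agent.Lib.Helper24.M24Blk
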