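import Mathlib
import Cfsg.Agent.Lib.Helper24.M24Blk.Keys
import Cfsg.Agent.Lib.Helper24.M24Blk.Data

/-!
# Orbit data of the class `7A` of `M₂₄` on the octads (helper24)
-/

set_option autoImplicit false
set_option maxRecDepth 1000000
set_option maxHeartbeats 40000000

namespace Cfsg.Agent.Lib.Helper24.M24Blk

open Cfsg Cfsg.Agent.Lib.Helper28 Cfsg.Agent.Lib.Helper13.PackPerm Cfsg.Agent.Lib.Helper13.M22Enum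
  Cfsg.Agent.Lib.Helper20.OneBlock

/-- the class representative -/
def g7AP : ℕ := 561359145496777583457024330530768518
/-- the commuting involution (or the identity) -/
def c7AP : ℕ := 984676192231316981551124078003337416

/-- the orbit entries -/
def Q7A : List Entry := [
  ([1, 0, 2, 1, 0, 1, 0, 0, 1], 7, 0, 0, 0),
  ([2, 1, 0, 0, 0, 0, 1, 0, 0], 7, 0, 0, 0),
  ([0, 1, 0, 0, 1, 0], 7, 478276065012726406399972335250672332, 971836263857004386005188942625883137, 62),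
  ([1, 0, 0, 2, 1, 0, 1, 0], 7, 0, 0, 0),
  ([0, 2, 1, 0, 0, 0, 0, 1, 0, 0], 7, 0, 0, 0),
  ([0, 0, 1, 0, 0, 1, 0], 7, 0, 0, 0),
  ([2, 0, 0, 2, 0, 1, 0], 7, 0, 0, 0),
  ([1, 0, 0, 1, 0, 2, 0, 0], 7, 0, 0, 0),
  ([2, 2, 0, 2, 1, 0, 2, 2, 2, 1], 7, 0, 0, 0),
  ([2, 2, 2, 0, 1, 0], 7, 0, 0, 0),
  ([1, 0, 0, 0, 2, 2, 1], 7, 50892732043739761883611455489018005, 610283258298688325910985628485600257, 232),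
  ([1, 0, 0, 0, 2, 1], 7, 0, 0, 0),
  ([0, 0, 0, 1, 0, 0, 1, 0], 7, 810027593026268823373332976182561225, 29395921827946026794865043067537463, 54),
  ([0, 1, 0, 2, 1], 7, 0, 0, 0),
  ([2, 2, 0, 0, 0, 1, 0, 0], 7, 0, 0, 0),
  ([2, 2, 2, 0, 1, 0, 0, 1], 7, 0, 0, 0),
  ([2, 2, 0, 2, 1, 0, 0], 7, 0, 0, 0),
  ([2, 2, 2, 2, 0, 0, 1, 0], 7, 0, 0, 0),
  ([0, 2, 2, 2, 0, 1, 0], 7, 169572949074946656690465797936635558, 984730849673303422986486049713260997, 54),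
  ([1, 0, 2, 0, 2, 1, 0, 1], 7, 0, 0, 0),
  ([2, 2, 0, 1, 0], 7, 0, 0, 0),
  ([2, 0, 2, 1, 0, 0, 1, 0], 7, 215576679300219949802357417042025962, 982224593024049257157786858763094126, 54),
  ([0, 1, 0, 0, 0, 2, 1], 7, 0, 0, 0),
  ([2, 0, 0, 0, 1, 0, 0, 0, 0], 7, 0, 0, 0),
  ([0, 0, 1, 0, 0, 0, 1, 0, 1], 7, 0, 0, 0),
  ([2, 0, 0, 0, 1, 0, 0], 7, 0, 0, 0),
  ([2, 0, 0, 0, 1, 0], 7, 0, 0, 0),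
  ([1, 0, 2, 2, 2, 0, 0], 7, 0, 0, 0),
  ([0, 2, 2, 0, 2, 1, 0, 0], 7, 0, 0, 0),
  ([2, 0, 0, 0, 1, 0, 0, 1, 0], 7, 0, 0, 0),
  ([2, 0, 0, 0, 2, 1, 0, 0], 7, 0, 0, 0),
  ([0, 2, 1, 0, 0, 2, 0, 2], 7, 0, 0, 0),
  ([0, 1, 0, 2, 0, 2, 1, 0, 1], 7, 0, 0, 0),
  ([0, 2, 2, 0, 1, 0], 7, 0, 0, 0),
  ([2, 2, 0, 1, 0, 2, 2], 7, 0, 0, 0),
  ([0, 2, 0, 2, 1, 0, 0, 1, 0], 7, 0, 0, 0),
  ([0, 2, 1, 0, 0, 0], 7, 0, 0, 0),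
  ([2, 2, 1, 0, 2, 2, 0, 1], 7, 0, 0, 0),
  ([0, 0, 1, 0, 0, 0, 2, 1], 7, 0, 0, 0),
  ([0, 2, 1, 0, 2, 1], 7, 0, 0, 0),
  ([0, 1, 0, 2, 0, 1, 0, 0, 1], 7, 0, 0, 0),
  ([2, 2, 0, 0, 1, 0, 0, 1], 7, 0, 0, 0),
  ([2, 1, 0, 2, 0, 2, 1], 7, 0, 0, 0),
  ([1, 0, 0, 0, 0, 0, 1, 0, 0], 7, 0, 0, 0),
  ([2, 0, 1, 0, 2, 2], 7, 0, 0, 0),
  ([0, 2, 0, 0, 0, 1, 0, 0], 7, 0, 0, 0),
  ([2, 1, 0, 0, 0, 0, 1], 7, 0, 0, 0),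
  ([0, 1, 0, 2, 2, 2, 0, 0], 7, 0, 0, 0),
  ([1, 0, 0, 0, 2, 1, 0, 0, 0], 7, 0, 0, 0),
  ([0, 1, 0, 0, 0, 1, 0, 2], 7, 0, 0, 0),
  ([0, 1, 0, 0], 7, 0, 0, 0),
  ([0, 2, 0, 0, 0, 2, 1, 0, 0], 7, 0, 0, 0),
  ([2, 0, 2, 1, 0, 2, 1], 7, 0, 0, 0),
  ([2, 0, 2, 0, 2, 2, 0, 1, 0, 0], 7, 0, 0, 0),
  ([0, 0, 2, 2, 0, 1, 0], 7, 0, 0, 0),
  ([1, 0, 1, 0, 0, 0, 0, 1, 0], 7, 0, 0, 0),
  ([0, 0, 2, 1, 0, 0, 0], 7, 0, 0, 0),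
  ([2, 0, 1, 0, 0, 0, 0], 7, 0, 0, 0),
  ([2, 0, 1, 0, 2], 7, 0, 0, 0),
  ([1, 0, 2, 0, 2, 1], 7, 0, 0, 0),
  ([1, 0, 0, 0, 0, 1, 0, 0], 7, 0, 0, 0),
  ([2, 0, 2, 2, 1, 0, 0, 0], 7, 0, 0, 0),
  ([2, 0, 0, 0, 1, 0, 2, 1], 7, 0, 0, 0),
  ([2, 1, 0, 0, 0, 2, 0, 2], 7, 0, 0, 0),
  ([0, 0, 0, 0, 1, 0, 2, 1], 7, 0, 0, 0),
  ([1, 0, 0, 1, 0, 0, 0, 2, 1], 7, 0, 0, 0),
  ([0, 2, 0, 1, 0, 2, 2], 7, 0, 0, 0),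
  ([2, 2, 0, 0, 0, 0, 1, 0, 0], 7, 0, 0, 0),
  ([1, 0, 0, 1, 0, 0, 0], 7, 0, 0, 0),
  ([1, 0, 0, 2, 0, 1, 0, 0], 7, 0, 0, 0),
  ([2, 1, 0, 1, 0, 0, 0, 0, 0], 7, 0, 0, 0),
  ([2, 2, 0, 2, 1, 0, 2, 2], 7, 0, 0, 0),
  ([0, 0, 1, 0, 2, 0, 0, 0], 7, 0, 0, 0),
  ([1, 0, 0, 0, 0], 7, 0, 0, 0),
  ([0, 0, 1, 0, 0], 7, 0, 0, 0),
  ([2, 2, 2, 1, 0, 0, 0, 1, 0], 7, 666344554489038058688513994664906018, 146261786287366217854178837448604197, 232),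
  ([2, 2, 2, 0, 2, 0, 1, 0, 0], 7, 0, 0, 0),
  ([2, 2, 2, 0, 2, 0, 1, 0], 7, 468936070060048782800421642762227831, 112375232065240487014677288284445733, 62),
  ([2, 2, 0, 0, 0, 1, 0, 0, 0, 0], 7, 668071089635459601693342303460148544, 963559745903778623359417332224538656, 62),
  ([2, 0, 2, 1, 0, 0, 0], 7, 0, 0, 0),
  ([1, 0, 2, 2, 0, 0, 0, 0, 0], 7, 0, 0, 0),
  ([2, 2, 0, 2, 1, 0, 2, 1], 7, 0, 0, 0),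
  ([2, 0, 1, 0, 2, 1], 7, 0, 0, 0),
  ([0, 2, 0, 1, 0, 2], 7, 0, 0, 0),
  ([1, 0, 0, 2, 1], 7, 0, 0, 0),
  ([0, 0, 0, 2, 1, 0, 2, 1], 7, 0, 0, 0),
  ([2, 0, 0, 1, 0, 0, 1, 0], 7, 0, 0, 0),
  ([1, 0, 0, 0, 2, 0, 2], 7, 0, 0, 0),
  ([0, 2, 1, 0, 0, 1, 0], 7, 0, 0, 0),
  ([1, 0, 0, 2, 2, 1, 0, 0, 0], 7, 958005890811025711111619706218384713, 236513623491057568040441467156662318, 62),
  ([0, 2, 1, 0, 0], 7, 0, 0, 0),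
  ([0, 1, 0, 2, 2, 0, 1], 7, 0, 0, 0),
  ([0, 2, 0, 0, 1, 0, 0], 7, 0, 0, 0),
  ([0, 0, 0, 1, 0, 0, 0, 0, 1], 7, 0, 0, 0),
  ([0, 0, 2, 0, 1, 0, 0, 1], 7, 0, 0, 0),
  ([2, 0, 2, 1, 0, 2, 2], 7, 0, 0, 0),
  ([0, 0, 0, 1, 0, 0], 7, 0, 0, 0),
  ([2, 2, 1, 0, 2, 0, 1, 0], 1, 0, 0, 0),
  ([1, 0, 2, 0, 2, 2, 0, 0], 7, 0, 0, 0),
  ([1, 0, 0, 2, 2, 1, 0, 1, 0], 7, 0, 0, 0),
  ([2, 2, 2, 0, 1, 0, 0, 0], 7, 0, 0, 0),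
  ([0, 0, 0, 0, 1, 0, 2, 2], 7, 0, 0, 0),
  ([2, 0, 1, 0, 0, 1], 7, 546595735002791024377546513486202119, 70953386959030286626061737309244131, 54),
  ([0, 1, 0, 2, 1, 0, 1], 7, 0, 0, 0),
  ([0, 1, 0, 2, 2, 1, 0, 0, 0], 1, 0, 0, 0),
  ([0, 2, 0, 2, 1, 0, 2, 2], 7, 0, 0, 0),
  ([2, 0, 2, 2, 0, 0, 0, 1, 0], 7, 0, 0, 0),
  ([1, 0, 1, 0, 0, 0], 7, 0, 0, 0),
  ([2, 1, 0, 0, 0], 7, 0, 0, 0),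
  ([2, 1, 0, 2, 0, 1, 0, 1], 7, 0, 0, 0),
  ([2, 2, 0, 0, 2, 0, 0, 1], 1, 719432542989151859114493654888101943, 961365507626256404119956257276790816, 1744)]

theorem g7A_tab : TabM24 g7AP ∧ Canon g7AP := by decide +kernel
theorem c7A_tab : TabM24 c7AP ∧ Canon c7AP := by decide +kernel
theorem valid_g7A : Valid g7AP := valid_of_tab g7A_tab.1 g7A_tab.2
theorem valid_c7A : Valid c7AP := valid_of_tab c7A_tab.1 c7A_tab.2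
theorem c7A_sq : compP c7AP c7AP = idP := by decide +kernel
theorem c7A_comm : compP c7AP g7AP = compP g7AP c7AP := by decide +kernel
theorem Q7A_nodup :
    (Q7A.flatMap fun d => (iterL g7AP d.2.1 (wordP d.1)).map keyP).Nodup :=
  nodup_of_keysH g7AP Q7A (by decide +kernel)
theorem Q7A_len : (Q7A.map fun d => d.2.1).sum = 759 := by decide +kernel
theorem Q7A_ok : ∀ d ∈ Q7A, EntryOK g7AP c7AP d := by decide +kernel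
theorem Q7A_par : (Q7A.map fun d => d.2.1 * d.2.2.2.2).sum % 2 = 0 := by decide +kernel
theorem Q7A_mem : ∀ d ∈ Q7A, d.2.2.1 ≠ 0 → (d.2.2.1, d.2.2.2.1, d.2.2.2.2) ∈ D7A := by
  decide +kernel

/-- the one-block count of the class `7A` is even, given the local counts -/
theorem even_7A (hcnt : ∀ d ∈ D7A, ∀ γ κ : Equiv.Perm GolayPt, γ ∈ M24 → Rep γ d.1 → Rep κ d.2.1 →
      octCnt γ κ = d.2.2) :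
    Even (Nat.card {x : ↥M24 // Good 2 (elt g7AP) x}) :=
  even_of_cls g7AP c7AP valid_g7A valid_c7A c7A_sq c7A_comm Q7A Q7A_nodup Q7A_len
    Q7A_ok Q7A_par
    (fun d hd h0 γ κ hγ rγ rκ => hcnt _ (Q7A_mem d hd h0) γ κ hγ rγ rκ)

end Cfsg.Agent.Lib.Helper24.M24Blk
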