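import Cfsg.Agent.Lib.Helper24.M24Blk.Cls3A
import Cfsg.Agent.Lib.Helper24.M24Blk.Cls3B
import Cfsg.Agent.Lib.Helper24.M24Blk.Cls5A
import Cfsg.Agent.Lib.Helper24.M24Blk.Cls7A
import Cfsg.Agent.Lib.Helper24.M24Blk.Cls11A
import Cfsg.Agent.Lib.Helper24.M24Blk.Cls15A
import Cfsg.Agent.Lib.Helper24.M24Blk.Cls21A
import Cfsg.Agent.Lib.Helper24.M24Blk.Cls23A
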