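import Mathlib
import Cfsg.Agent.Lib.Helper24.M24Blk.M24Cos
import Cfsg.Agent.Lib.Helper28.OutTabs

/-!
# Generic tools for the classes of elements of odd order of `M₂₄` (helper24)

Packed powers, equality of named elements, a conjugate commuting with a generator of a Sylow subgroup of
prime order, subgroups given by closed lists of packed tables.
-/

set_option autoImplicit false
set_option linter.unusedSectionVars false
set_option linter.unusedVariables false

namespace Cfsg.Agent.Lib.Helper24.M24Blk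

open Cfsg MulAction Cfsg.Agent.Lib.Helper28 Cfsg.Agent.Lib.Helper13.PackPerm
  Cfsg.Agent.Lib.Helper13.M22Enum Cfsg.Agent.Lib.Helper20.OneBlock

/-! ### packed powers -/

/-- the packed table of a power -/
def powP (p : ℕ) : ℕ → ℕ
  | 0 => idP
  | n + 1 => compP p (powP p n)

theorem rep_pow {σ : ↥M24} {p : ℕ} (h : Rep σ.1 p) (n : ℕ) : Rep (σ ^ n).1 (powP p n) := by
  induction n with
  | zero => rw [pow_zero]; exact rep_one
  | succ n ih => rw [pow_succ']; exact rep_mul h ih

theorem valid_powP {p : ℕ} (h : Valid p) (n : ℕ) : Valid (powP p n) :=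
  valid_of_rep (rep_pow (elt_rep h) n)

theorem elt_powP {p : ℕ} (h : Valid p) (n : ℕ) : elt (powP p n) = elt p ^ n :=
  elt_eq (rep_pow (elt_rep h) n)

theorem eq_one_of_rep_idP {σ : ↥M24} (h : Rep σ.1 idP) : σ = 1 :=
  Subtype.ext (actsBy_unique h.1 rep_one.1)

theorem rep_unique {σ : ↥M24} {p q : ℕ} (hp : Rep σ.1 p) (hq : Rep σ.1 q) : p = q :=
  eq_of_actsBy hp.1 hq.1 hp.2 hq.2

theorem elt_injOn {p q : ℕ} (hp : Valid p) (hq : Valid q) (h : elt p = elt q) : p = q := by
  have h1 := elt_rep hp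
  rw [h] at h1
  exact rep_unique h1 (elt_rep hq)

theorem elt_eq_one_iff {p : ℕ} (hp : Valid p) : elt p = 1 ↔ p = idP := by
  constructor
  · intro h
    have h1 := elt_rep hp
    rw [h] at h1
    exact rep_unique h1 rep_one
  · intro h
    rw [h, elt_idP]

/-- a named element from a table of `Helper28` -/
theorem actsBy_of_tActs {g : Equiv.Perm GolayPt} {tab : Fin 24 → Fin 24} {p : ℕ} (h : TActs g tab)
    (hp : ∀ a : Fin 24, look p a.val = (tab a).val) : ActsBy g p := by
  intro a ha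
  have h1 := hp ⟨a, ha⟩
  simp only at h1
  rw [h1]
  refine ⟨(tab ⟨a, ha⟩).2, ?_⟩
  have h2 := h ⟨a, ha⟩
  rw [← ptN_val, ← ptN_val] at h2
  exact h2

/-! ### generic group theory -/

section generic

variable {G : Type*} [Group G]

/-- some conjugate of `g` commutes with a generator of a Sylow subgroup of prime order -/
theorem exists_conj_commute [Finite G] {r : ℕ} [hr : Fact r.Prime] (hr2 : ¬ r ^ 2 ∣ Nat.card G)
    (gr : G) (hgr : orderOf gr = r) (g : G) (hg : r ∣ orderOf g) :
    ∃ c : G, Commute (c⁻¹ * g * c) gr := by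
  have hrp := hr.out
  set K := Subgroup.zpowers gr with hK
  have hKcard : Nat.card K = r := by rw [Nat.card_zpowers, hgr]
  have hKidx : ¬ r ∣ K.index := by
    intro h
    apply hr2
    rw [← K.card_mul_index, hKcard, pow_two]
    exact Nat.mul_dvd_mul_left r h
  have hg0 : orderOf g ≠ 0 := (orderOf_pos g).ne'
  set h0 := g ^ (orderOf g / r) with hh0
  have ho : orderOf h0 = r := orderOf_pow_orderOf_div hg0 hg
  obtain ⟨c, hc1⟩ := exists_conj_mem_of_pElement K hKidx h0 ⟨1, by rw [ho, pow_one]⟩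
  refine ⟨c, ?_⟩
  set g' := c⁻¹ * g * c with hg'
  set h1 := c⁻¹ * h0 * c with hh1
  have hcomm : Commute g' h1 := by
    have h2 : g * h0 = h0 * g := ((Commute.refl g).pow_right _).eq
    show g' * h1 = h1 * g'
    calc g' * h1 = c⁻¹ * (g * h0) * c := by rw [hg', hh1]; group
      _ = c⁻¹ * (h0 * g) * c := by rw [h2]
      _ = h1 * g' := by rw [hg', hh1]; group
  have ho1 : orderOf h1 = r := by
    have h2 : h1 = c⁻¹ * h0 * c⁻¹⁻¹ := by rw [hh1, inv_inv]
    rw [h2, orderOf_conj_eq, ho]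
  have hle : Subgroup.zpowers h1 ≤ K := by
    rw [Subgroup.zpowers_le]; exact hc1
  have heq : Subgroup.zpowers h1 = K := by
    apply Subgroup.eq_of_le_of_card_ge hle
    rw [hKcard, Nat.card_zpowers, ho1]
  have hgr_mem : gr ∈ Subgroup.zpowers h1 := by rw [heq]; exact Subgroup.mem_zpowers gr
  obtain ⟨m, hm⟩ := Subgroup.mem_zpowers_iff.mp hgr_mem
  rw [← hm]; exact hcomm.zpow_right m

/-- a cyclic centralizer -/
theorem card_centralizer_of_forall (r : G) (h : ∀ x : G, x * r = r * x → x ∈ Subgroup.zpowers r) :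
    Nat.card (Subgroup.centralizer {r}) = orderOf r := by
  have : Subgroup.centralizer {r} = Subgroup.zpowers r := by
    apply le_antisymm
    · intro x hx
      rw [Subgroup.mem_centralizer_iff] at hx
      exact h x (hx r rfl).symm
    · rw [Subgroup.zpowers_le, Subgroup.mem_centralizer_iff]
      intro y hy
      rw [Set.mem_singleton_iff] at hy; subst hy; rfl
  rw [this, Nat.card_zpowers]

/-- an element of odd order killed by `2 ^ a * M` is killed by `M` -/
theorem pow_odd_part (g : G) (N M a : ℕ) (hN : g ^ N = 1) (hNM : N = 2 ^ a * M)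
    (hodd : ¬ 2 ∣ orderOf g) : g ^ M = 1 := by
  rw [← orderOf_dvd_iff_pow_eq_one] at hN ⊢
  rw [hNM] at hN
  have hcop : Nat.Coprime (orderOf g) (2 ^ a) :=
    Nat.Coprime.pow_right a
      (Nat.Coprime.symm ((Nat.Prime.coprime_iff_not_dvd Nat.prime_two).mpr hodd))
  exact hcop.dvd_of_dvd_mul_left hN

end generic

/-! ### subgroups from closed lists of packed tables -/

/-- the subgroup of `M₂₄` of a list of packed tables closed under composition, of exponent 3 -/
noncomputable def listSubgroup (L : List ℕ) (hv : ∀ p ∈ L, Valid p) (h1 : idP ∈ L)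
    (hmul : ∀ p ∈ L, ∀ q ∈ L, compP p q ∈ L) (h3 : ∀ p ∈ L, powP p 3 = idP) : Subgroup ↥M24 where
  carrier := {x | ∃ p ∈ L, x = elt p}
  mul_mem' := by
    rintro _ _ ⟨p, hp, rfl⟩ ⟨q, hq, rfl⟩
    exact ⟨compP p q, hmul p hp q hq, (elt_comp (hv p hp) (hv q hq)).symm⟩
  one_mem' := ⟨idP, h1, elt_idP.symm⟩
  inv_mem' := by
    rintro _ ⟨p, hp, rfl⟩
    refine ⟨compP p p, hmul p hp p hp, ?_⟩
    rw [elt_comp (hv p hp) (hv p hp)]
    have h := elt_powP (hv p hp) 3
    rw [h3 p hp, elt_idP] at h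
    have h2 : elt p * (elt p * elt p) = 1 := by rw [h, pow_succ, pow_two]; group
    exact inv_eq_of_mul_eq_one_right h2

theorem card_listSubgroup (L : List ℕ) (hv : ∀ p ∈ L, Valid p) (h1 : idP ∈ L)
    (hmul : ∀ p ∈ L, ∀ q ∈ L, compP p q ∈ L) (h3 : ∀ p ∈ L, powP p 3 = idP) (hnd : L.Nodup) :
    Nat.card (listSubgroup L hv h1 hmul h3) = L.length := by
  classical
  have hnd' : (L.map elt).Nodup :=
    List.Nodup.map_on (fun p hp q hq h => elt_injOn (hv p hp) (hv q hq) h) hnd
  have hset : ((listSubgroup L hv h1 hmul h3 : Subgroup ↥M24) : Set ↥M24) =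
      ((L.map elt).toFinset : Set ↥M24) := by
    ext x
    simp only [SetLike.mem_coe, List.mem_toFinset, List.mem_map]
    constructor
    · rintro ⟨p, hp, rfl⟩; exact ⟨p, hp, rfl⟩
    · rintro ⟨p, hp, rfl⟩; exact ⟨p, hp, rfl⟩
  have h2 : Nat.card (listSubgroup L hv h1 hmul h3) =
      Set.ncard ((listSubgroup L hv h1 hmul h3 : Subgroup ↥M24) : Set ↥M24) :=
    _root_.Nat.card_coe_set_eq _
  rw [h2, hset, Set.ncard_coe_finset, List.toFinset_card_of_nodup hnd', List.length_map]

theorem pow_three_of_mem_listSubgroup (L : List ℕ) (hv : ∀ p ∈ L, Valid p) (h1 : idP ∈ L)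
    (hmul : ∀ p ∈ L, ∀ q ∈ L, compP p q ∈ L) (h3 : ∀ p ∈ L, powP p 3 = idP) (x : ↥M24)
    (hx : x ∈ listSubgroup L hv h1 hmul h3) : x ^ 3 = 1 := by
  obtain ⟨p, hp, rfl⟩ := hx
  rw [← elt_powP (hv p hp) 3, h3 p hp, elt_idP]

end Cfsg.Agent.Lib.Helper24.M24Blk
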