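import Mathlib
import Cfsg.Agent.Lib.Helper24.M24Blk.CoverGen
import Cfsg.Agent.Lib.Helper24.M24Blk.Cls5A
import Cfsg.Agent.Lib.Helper24.M24Blk.Cls11A
import Cfsg.Agent.Lib.Helper24.M24Blk.Cls23A
import Cfsg.Agent.Lib.Helper28.OutM24

/-!
# The elements of `M₂₄` of order divisible by 11 or 23 (helper24)
-/

set_option autoImplicit false
set_option maxRecDepth 1000000
set_option maxHeartbeats 40000000

namespace Cfsg.Agent.Lib.Helper24.M24Blk

open Cfsg MulAction Cfsg.Agent.Lib.Helper28 Cfsg.Agent.Lib.Helper13.PackPerm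
  Cfsg.Agent.Lib.Helper13.M22Enum Cfsg.Agent.Lib.Helper20.OneBlock

/-- the order of a named element from packed powers -/
theorem orderOf_elt_prime {p : ℕ} (hp : Valid p) (r : ℕ) [Fact r.Prime] (h1 : powP p r = idP)
    (h2 : p ≠ idP) : orderOf (elt p) = r := by
  apply orderOf_eq_prime
  · rw [← elt_powP hp r, h1, elt_idP]
  · intro h
    exact h2 ((elt_eq_one_iff hp).mp h)

/-- the class representatives -/
noncomputable def r23 : ↥M24 := elt g23AP
/-- the class representatives -/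
noncomputable def r11 : ↥M24 := elt g11AP
/-- the class representatives -/
noncomputable def r5 : ↥M24 := elt g5AP

theorem r23_eq : r23 = ⟨m24shift, m24shift_mem_M24⟩ :=
  elt_eq (σ := ⟨m24shift, m24shift_mem_M24⟩)
    ⟨actsBy_of_tActs shift_acts (by decide +kernel), g23A_tab.2⟩

theorem r11_eq : r11 = ⟨o11_b, o11_b_mem⟩ :=
  elt_eq (σ := ⟨o11_b, o11_b_mem⟩) ⟨actsBy_of_tActs o11_b_acts (by decide +kernel), g11A_tab.2⟩

theorem r5_eq : r5 = ⟨cubeTwist, cubeTwist_mem_M24⟩ :=
  elt_eq (σ := ⟨cubeTwist, cubeTwist_mem_M24⟩)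
    ⟨actsBy_of_tActs cubeTwist_acts (by decide +kernel), g5A_tab.2⟩

theorem orderOf_r23 : orderOf r23 = 23 :=
  haveI : Fact (Nat.Prime 23) := ⟨by norm_num⟩
  orderOf_elt_prime valid_g23A 23 (by decide +kernel) (by decide +kernel)

theorem orderOf_r11 : orderOf r11 = 11 :=
  haveI : Fact (Nat.Prime 11) := ⟨by norm_num⟩
  orderOf_elt_prime valid_g11A 11 (by decide +kernel) (by decide +kernel)

theorem orderOf_r5 : orderOf r5 = 5 :=
  haveI : Fact (Nat.Prime 5) := ⟨by norm_num⟩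
  orderOf_elt_prime valid_g5A 5 (by decide +kernel) (by decide +kernel)

theorem card_cent_r23 : Nat.card (Subgroup.centralizer {r23}) = 23 := by
  rw [card_centralizer_of_forall r23, orderOf_r23]
  intro x hx
  rw [r23_eq] at hx ⊢
  rw [coe_mem_zpowers_iff]
  apply cent_shift
  exact congrArg Subtype.val hx

theorem card_cent_r11 : Nat.card (Subgroup.centralizer {r11}) = 11 := by
  rw [card_centralizer_of_forall r11, orderOf_r11]
  intro x hx
  rw [r11_eq] at hx ⊢
  rw [coe_mem_zpowers_iff]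
  apply cent_o11_b x.2
  exact congrArg Subtype.val hx

theorem norm_r23 : r11 * r23 * r11⁻¹ = r23 ^ 2 := by
  rw [r11_eq, r23_eq]
  apply Subtype.ext
  exact o11_hba

theorem norm_r11 : r5 * r11 * r5⁻¹ = r11 ^ 3 := by
  rw [r5_eq, r11_eq]
  apply Subtype.ext
  exact o11_hdb

theorem card_M24'' : Nat.card ↥M24 = 244823040 := card_M24

theorem case23 (P : ↥M24 → Prop) (hconj : ∀ c g, P g → P (c * g * c⁻¹))
    (hinv : ∀ g, P g → P g⁻¹) (h23 : P r23) (g : ↥M24) (h : 23 ∣ orderOf g) : P g := by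
  haveI : Fact (Nat.Prime 23) := ⟨by norm_num⟩
  obtain ⟨c, j, hj, rfl⟩ := conj_of_cyclic_sylow (r := 23) (by rw [card_M24'']; norm_num)
    r23 orderOf_r23 card_cent_r23 g h
  apply hconj
  exact prop_pow_of_normalizer P hconj hinv (by norm_num) orderOf_r23 norm_r23 (by decide) h23 j hj

theorem case11 (P : ↥M24 → Prop) (hconj : ∀ c g, P g → P (c * g * c⁻¹))
    (hinv : ∀ g, P g → P g⁻¹) (h11 : P r11) (g : ↥M24) (h : 11 ∣ orderOf g) : P g := by
  haveI : Fact (Nat.Prime 11) := ⟨by norm_num⟩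
  obtain ⟨c, j, hj, rfl⟩ := conj_of_cyclic_sylow (r := 11) (by rw [card_M24'']; norm_num)
    r11 orderOf_r11 card_cent_r11 g h
  apply hconj
  exact prop_pow_of_normalizer P hconj hinv (by norm_num) orderOf_r11 norm_r11 (by decide) h11 j hj

end Cfsg.Agent.Lib.Helper24.M24Blk
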