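import Mathlib
import Cfsg.Agent.Lib.Helper24.M24Blk.CoverGen
import Cfsg.Agent.Lib.Helper24.M24Blk.CoverData
import Cfsg.Agent.Lib.Helper24.M24Blk.Cls3A
import Cfsg.Agent.Lib.Helper24.M24Blk.Cls3B
import Cfsg.Agent.Lib.Helper28.ElemClasses
import Cfsg.Agent.Lib.Helper28.ElemFix

/-!
# The 3-elements of `M₂₄` (helper24)

An explicit Sylow 3-subgroup of exponent 3, so that every nontrivial 3-element has order 3 and is
conjugate to one of the two representatives of `Helper28.order_three_conj`.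
-/

set_option autoImplicit false
set_option maxRecDepth 1000000
set_option maxHeartbeats 40000000

namespace Cfsg.Agent.Lib.Helper24.M24Blk

open Cfsg MulAction Cfsg.Agent.Lib.Helper28 Cfsg.Agent.Lib.Helper13.PackPerm
  Cfsg.Agent.Lib.Helper13.M22Enum Cfsg.Agent.Lib.Helper20.OneBlock

theorem syl_tab : (TabM24 sylAP ∧ Canon sylAP) ∧ (TabM24 sylBP ∧ Canon sylBP) := by decide +kernel

theorem valid_sylA : Valid sylAP := valid_of_tab syl_tab.1.1 syl_tab.1.2
theorem valid_sylB : Valid sylBP := valid_of_tab syl_tab.2.1 syl_tab.2.2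

theorem L27_eq : L27 = (List.range 3).flatMap fun i => (List.range 3).flatMap fun j =>
    (List.range 3).map fun k => compP (powP sylAP i) (compP (powP sylBP j) (powP g3AP k)) := by
  decide +kernel

theorem L27_valid : ∀ p ∈ L27, Valid p := by
  intro p hp
  rw [L27_eq, List.mem_flatMap] at hp
  obtain ⟨i, _, hp⟩ := hp
  rw [List.mem_flatMap] at hp
  obtain ⟨j, _, hp⟩ := hp
  rw [List.mem_map] at hp
  obtain ⟨k, _, rfl⟩ := hp
  exact valid_comp (valid_powP valid_sylA i)
    (valid_comp (valid_powP valid_sylB j) (valid_powP valid_g3A k))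

theorem L27_one : idP ∈ L27 := by decide +kernel

theorem L27_mul : ∀ p ∈ L27, ∀ q ∈ L27, compP p q ∈ L27 := by decide +kernel

theorem L27_pow : ∀ p ∈ L27, powP p 3 = idP := by decide +kernel

theorem L27_nodup : L27.Nodup := by decide +kernel

/-- an explicit Sylow 3-subgroup -/
noncomputable def syl3 : Subgroup ↥M24 := listSubgroup L27 L27_valid L27_one L27_mul L27_pow

theorem card_syl3 : Nat.card syl3 = 27 := by
  unfold syl3
  rw [card_listSubgroup L27 L27_valid L27_one L27_mul L27_pow L27_nodup]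
  rfl

theorem card_M24' : Nat.card ↥M24 = 244823040 := card_M24

/-- every 3-element of `M₂₄` has exponent 3 -/
theorem pow_three_of_three_elt (g : ↥M24) (hg : ∃ k : ℕ, orderOf g = 3 ^ k) : g ^ 3 = 1 := by
  haveI : Fact (Nat.Prime 3) := ⟨Nat.prime_three⟩
  have hidx : ¬ 3 ∣ syl3.index := by
    intro h
    have h1 := syl3.card_mul_index
    rw [card_syl3, card_M24'] at h1
    omega
  obtain ⟨c, hc⟩ := exists_conj_mem_of_pElement syl3 hidx g hg
  have h3 := pow_three_of_mem_listSubgroup L27 L27_valid L27_one L27_mul L27_pow _ hc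
  have h4 : g = c * (c⁻¹ * g * c) * c⁻¹ := by group
  rw [h4, conj_pow, h3]
  group

/-- the two classes of elements of order 3 -/
noncomputable def r3A : ↥M24 := elt g3AP
/-- the two classes of elements of order 3 -/
noncomputable def r3B : ↥M24 := elt g3BP

theorem rep3_zero_acts : ActsBy (rep3 0) g3AP ∧ ActsBy (rep3 1) g3BP := by
  constructor
  · exact actsBy_permOfList (goodPerm_getD el_rep_check.2 0) (by decide +kernel)
  · exact actsBy_permOfList (goodPerm_getD el_rep_check.2 1) (by decide +kernel)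

theorem rep3_mem (r : ℕ) (hr : r < 2) : rep3 r ∈ M24 := by
  have h := el_rep_check.2
  have hl : el_rep3.getD r idList ∈ el_rep3 := by
    rw [List.getD_eq_getElem _ _ (by rw [show el_rep3.length = 2 from rfl]; exact hr)]
    exact List.getElem_mem _
  exact (h _ hl).mem

theorem r3A_val : r3A.1 = rep3 0 := by
  have h : r3A = ⟨rep3 0, rep3_mem 0 (by norm_num)⟩ :=
    elt_eq (σ := ⟨rep3 0, rep3_mem 0 (by norm_num)⟩) ⟨rep3_zero_acts.1, g3A_tab.2⟩
  rw [h]

theorem r3B_val : r3B.1 = rep3 1 := by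
  have h : r3B = ⟨rep3 1, rep3_mem 1 (by norm_num)⟩ :=
    elt_eq (σ := ⟨rep3 1, rep3_mem 1 (by norm_num)⟩) ⟨rep3_zero_acts.2, g3B_tab.2⟩
  rw [h]

/-- a nontrivial 3-element is conjugate to one of the two representatives -/
theorem case3 (P : ↥M24 → Prop) (hconj : ∀ c g, P g → P (c * g * c⁻¹)) (h3A : P r3A) (h3B : P r3B)
    (g : ↥M24) (hg1 : g ≠ 1) (hg : ∃ k : ℕ, orderOf g = 3 ^ k) : P g := by
  haveI : Fact (Nat.Prime 3) := ⟨Nat.prime_three⟩
  have h3 : orderOf g = 3 := orderOf_eq_prime (pow_three_of_three_elt g hg) hg1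
  have h3' : orderOf g.1 = 3 := by rw [Subgroup.orderOf_coe]; exact h3
  obtain ⟨k, hk, r, hr, he⟩ := order_three_conj g.2 h3'
  have hr' : r = 0 ∨ r = 1 := by omega
  have hgk : ∀ x : ↥M24, x.1 = rep3 r → g = (⟨k, hk⟩ : ↥M24)⁻¹ * x * (⟨k, hk⟩ : ↥M24)⁻¹⁻¹ := by
    intro x hx
    apply Subtype.ext
    show g.1 = k⁻¹ * x.1 * k⁻¹⁻¹
    rw [hx, ← he]
    group
  rcases hr' with rfl | rfl
  · rw [hgk r3A r3A_val]
    exact hconj _ _ h3A
  · rw [hgk r3B r3B_val]
    exact hconj _ _ h3B

end Cfsg.Agent.Lib.Helper24.M24Blk
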