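import Mathlib
import Cfsg.Agent.Lib.Helper24.M24Blk.CoverGen
import Cfsg.Agent.Lib.Helper24.M24Blk.CoverData
import Cfsg.Agent.Lib.Helper24.M24Blk.Cover23
import Cfsg.Agent.Lib.Helper24.M24Blk.Cls7A
import Cfsg.Agent.Lib.Helper24.M24Blk.Cls15A
import Cfsg.Agent.Lib.Helper24.M24Blk.Cls21A
import Cfsg.Agent.Lib.Helper28.CentFive
import Cfsg.Agent.Lib.Helper28.NormSeven

/-!
# The elements of odd order of `M₂₄` divisible by 5 or 7 (helper24)

The centralizers of the elements of order 5 and 7 (of orders 60 and 42) are listed by packed tables and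
each of their elements of odd order divisible by 5 (resp. 7) comes with a conjugator to one of the
representatives of order 5, 15 (resp. 7, 21) or its inverse.
-/

set_option autoImplicit false
set_option maxRecDepth 1000000
set_option maxHeartbeats 40000000

namespace Cfsg.Agent.Lib.Helper24.M24Blk

open Cfsg MulAction Cfsg.Agent.Lib.Helper28 Cfsg.Agent.Lib.Helper13.PackPerm
  Cfsg.Agent.Lib.Helper13.M22Enum Cfsg.Agent.Lib.Helper20.OneBlock

/-- the check on an element of a centralizer: killed by `N`, and if it is killed by `M` but not by `3`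
then some listed conjugator maps it to a listed target -/
def ClsOK (N M : ℕ) (KT : List (ℕ × ℕ)) (p : ℕ) : Prop :=
  powP p N = idP ∧
    (powP p M ≠ idP ∨ powP p 3 = idP ∨ ∃ kt ∈ KT, compP kt.1 p = compP kt.2 kt.1)

instance (N M : ℕ) (KT : List (ℕ × ℕ)) (p : ℕ) : Decidable (ClsOK N M KT p) := by
  unfold ClsOK; infer_instance

theorem cls_of_ok (P : ↥M24 → Prop) (hconj : ∀ c g, P g → P (c * g * c⁻¹)) (N M a r : ℕ)
    (hNM : N = 2 ^ a * M) (KT : List (ℕ × ℕ)) (T : List ℕ)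
    (hKT : ∀ kt ∈ KT, Valid kt.1 ∧ kt.2 ∈ T) (hT : ∀ t ∈ T, Valid t ∧ P (elt t))
    (hr : r.Prime) (hr3 : r ≠ 3) (g : ↥M24) (hodd : ¬ 2 ∣ orderOf g) (hrg : r ∣ orderOf g) (p : ℕ)
    (hp : Rep g.1 p) (hok : ClsOK N M KT p) : P g := by
  have hv : Valid p := valid_of_rep hp
  have hg : elt p = g := elt_eq hp
  obtain ⟨h1, h2⟩ := hok
  have hN : g ^ N = 1 := by rw [← hg, ← elt_powP hv N, h1, elt_idP]
  have hM : g ^ M = 1 := pow_odd_part g N M a hN hNM hodd
  have hM' : powP p M = idP := by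
    rw [← elt_eq_one_iff (valid_powP hv M), elt_powP hv M, hg, hM]
  rcases h2 with h2 | h2 | ⟨kt, hkt, he⟩
  · exact absurd hM' h2
  · exfalso
    have h3 : g ^ 3 = 1 := by rw [← hg, ← elt_powP hv 3, h2, elt_idP]
    have h4 : orderOf g ∣ 3 := orderOf_dvd_of_pow_eq_one h3
    have h5 : r ∣ 3 := dvd_trans hrg h4
    rcases (Nat.dvd_prime Nat.prime_three).mp h5 with h6 | h6
    · exact hr.one_lt.ne' h6
    · exact hr3 h6
  · obtain ⟨hk, ht⟩ := hKT kt hkt
    obtain ⟨htv, htP⟩ := hT kt.2 ht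
    have h3 : elt kt.1 * g = elt kt.2 * elt kt.1 := by
      rw [← hg, ← elt_comp hk hv, ← elt_comp htv hk, he]
    have h4 : g = (elt kt.1)⁻¹ * elt kt.2 * (elt kt.1)⁻¹⁻¹ := by
      rw [inv_inv, mul_assoc, ← h3]
      group
    rw [h4]
    exact hconj _ _ htP

/-- the inverse of a named element -/
theorem elt_inv_of_comp {p q : ℕ} (hp : Valid p) (hq : Valid q) (h : compP p q = idP) :
    elt q = (elt p)⁻¹ := by
  have h1 : elt p * elt q = 1 := by rw [← elt_comp hp hq, h, elt_idP]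
  exact (inv_eq_of_mul_eq_one_right h1).symm

/-! ### order 5 and 15 -/

/-- the class representative of order 15 -/
noncomputable def r15 : ↥M24 := elt g15AP

/-- the targets -/
def T5 : List ℕ := [g5AP, g5invP, g15AP, g15invP]

theorem inv5_tab : (TabM24 g5invP ∧ Canon g5invP) ∧ (TabM24 g15invP ∧ Canon g15invP) ∧
    compP g5AP g5invP = idP ∧ compP g15AP g15invP = idP := by decide +kernel

theorem K5_tab : ∀ k ∈ K5, TabM24 k ∧ Canon k := by decide +kernel

theorem KT5_ok : ∀ kt ∈ KT5, kt.1 ∈ K5 ∧ kt.2 ∈ T5 := by decide +kernel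

theorem KT5_valid : ∀ kt ∈ KT5, Valid kt.1 ∧ kt.2 ∈ T5 := fun kt h =>
  ⟨valid_of_tab (K5_tab _ (KT5_ok kt h).1).1 (K5_tab _ (KT5_ok kt h).1).2, (KT5_ok kt h).2⟩

theorem T5_ok (P : ↥M24 → Prop) (hinv : ∀ g, P g → P g⁻¹) (h5 : P r5) (h15 : P r15) :
    ∀ t ∈ T5, Valid t ∧ P (elt t) := by
  obtain ⟨a1, a2, a3, a4⟩ := inv5_tab
  have v1 : Valid g5invP := valid_of_tab a1.1 a1.2
  have v2 : Valid g15invP := valid_of_tab a2.1 a2.2
  intro t ht
  simp only [T5, List.mem_cons, List.not_mem_nil, or_false] at ht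
  rcases ht with rfl | rfl | rfl | rfl
  · exact ⟨valid_g5A, h5⟩
  · exact ⟨v1, by rw [elt_inv_of_comp valid_g5A v1 a3]; exact hinv _ h5⟩
  · exact ⟨valid_g15A, h15⟩
  · exact ⟨v2, by rw [elt_inv_of_comp valid_g15A v2 a4]; exact hinv _ h15⟩

/-- the 60 elements of the centralizer of the element of order 5 -/
def L5 : List ℕ := (List.range 5).flatMap fun j => o5L.map fun t => compP (powP g5AP (5 - j)) t

theorem o5L_look : ∀ i : Fin 12, ∀ a : Fin 24, look (o5L.getD i.val 0) a.val = (o5_cos i a).val := by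
  decide +kernel

theorem o5L_canon : ∀ t ∈ o5L, Canon t := by decide +kernel

theorem o5L_len : o5L.length = 12 := by decide

theorem cover5 (g : ↥M24) (hc : g * r5 = r5 * g) : ∃ p ∈ L5, Rep g.1 p := by
  have hc' : g.1 * cubeTwist = cubeTwist * g.1 := by
    rw [r5_eq] at hc
    exact congrArg Subtype.val hc
  obtain ⟨j, i, hT⟩ := cent_cubeTwist g.2 hc'
  have hmem : o5L.getD i.val 0 ∈ o5L := by
    rw [List.getD_eq_getElem _ _ (by rw [o5L_len]; exact i.2)]
    exact List.getElem_mem _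
  have hτ : Rep (r5 ^ j.val * g).1 (o5L.getD i.val 0) := by
    refine ⟨?_, o5L_canon _ hmem⟩
    have h1 : (r5 ^ j.val * g).1 = cubeTwist ^ j.val * g.1 := by rw [r5_eq]; rfl
    rw [h1]
    exact actsBy_of_tActs hT (o5L_look i)
  have h5 : r5 ^ 5 = 1 := by rw [← orderOf_r5]; exact pow_orderOf_eq_one r5
  have hg : g = r5 ^ (5 - j.val) * (r5 ^ j.val * g) := by
    rw [← mul_assoc, ← pow_add, Nat.sub_add_cancel (le_of_lt j.2), h5, one_mul]
  refine ⟨compP (powP g5AP (5 - j.val)) (o5L.getD i.val 0), ?_, ?_⟩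
  · unfold L5
    rw [List.mem_flatMap]
    exact ⟨j.val, List.mem_range.mpr j.2, List.mem_map.mpr ⟨_, hmem, rfl⟩⟩
  · have h := rep_mul (rep_pow (elt_rep valid_g5A) (5 - j.val)) hτ
    rw [show elt g5AP = r5 from rfl, ← hg] at h
    exact h

theorem L5_ok : ∀ p ∈ L5, ClsOK 60 15 KT5 p := by decide +kernel

theorem case5 (P : ↥M24 → Prop) (hconj : ∀ c g, P g → P (c * g * c⁻¹))
    (hinv : ∀ g, P g → P g⁻¹) (h5 : P r5) (h15 : P r15) (g : ↥M24) (hodd : ¬ 2 ∣ orderOf g)
    (h : 5 ∣ orderOf g) : P g := by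
  haveI : Fact (Nat.Prime 5) := ⟨by norm_num⟩
  obtain ⟨c, hc⟩ := exists_conj_commute (r := 5) (by rw [card_M24'']; norm_num) r5 orderOf_r5 g h
  have ho : orderOf (c⁻¹ * g * c) = orderOf g := orderOf_conj_inv c g
  obtain ⟨p, hp, hrep⟩ := cover5 _ hc.eq
  have hP : P (c⁻¹ * g * c) :=
    cls_of_ok P hconj 60 15 2 5 (by norm_num) KT5 T5 KT5_valid (T5_ok P hinv h5 h15)
      (by norm_num) (by norm_num) _ (by rw [ho]; exact hodd) (by rw [ho]; exact h) p hrep
      (L5_ok p hp)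
  have hg : g = c * (c⁻¹ * g * c) * c⁻¹ := by group
  rw [hg]
  exact hconj _ _ hP

/-! ### order 7 and 21 -/

/-- the class representative of order 7 -/
noncomputable def r7 : ↥M24 := elt g7AP
/-- the class representative of order 21 -/
noncomputable def r21 : ↥M24 := elt g21AP

theorem r7_eq : r7 = ⟨n7x, n7x_mem⟩ :=
  elt_eq (σ := ⟨n7x, n7x_mem⟩) ⟨n7x_acts, g7A_tab.2⟩

theorem orderOf_r7 : orderOf r7 = 7 :=
  haveI : Fact (Nat.Prime 7) := ⟨by norm_num⟩
  orderOf_elt_prime valid_g7A 7 (by decide +kernel) (by decide +kernel)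

/-- the targets -/
def T7 : List ℕ := [g7AP, g7invP, g21AP, g21invP]

theorem inv7_tab : (TabM24 g7invP ∧ Canon g7invP) ∧ (TabM24 g21invP ∧ Canon g21invP) ∧
    compP g7AP g7invP = idP ∧ compP g21AP g21invP = idP := by decide +kernel

theorem K7_tab : ∀ k ∈ K7, TabM24 k ∧ Canon k := by decide +kernel

theorem KT7_ok : ∀ kt ∈ KT7, kt.1 ∈ K7 ∧ kt.2 ∈ T7 := by decide +kernel

theorem KT7_valid : ∀ kt ∈ KT7, Valid kt.1 ∧ kt.2 ∈ T7 := fun kt h =>
  ⟨valid_of_tab (K7_tab _ (KT7_ok kt h).1).1 (K7_tab _ (KT7_ok kt h).1).2, (KT7_ok kt h).2⟩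

theorem T7_ok (P : ↥M24 → Prop) (hinv : ∀ g, P g → P g⁻¹) (h7 : P r7) (h21 : P r21) :
    ∀ t ∈ T7, Valid t ∧ P (elt t) := by
  obtain ⟨a1, a2, a3, a4⟩ := inv7_tab
  have v1 : Valid g7invP := valid_of_tab a1.1 a1.2
  have v2 : Valid g21invP := valid_of_tab a2.1 a2.2
  intro t ht
  simp only [T7, List.mem_cons, List.not_mem_nil, or_false] at ht
  rcases ht with rfl | rfl | rfl | rfl
  · exact ⟨valid_g7A, h7⟩
  · exact ⟨v1, by rw [elt_inv_of_comp valid_g7A v1 a3]; exact hinv _ h7⟩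
  · exact ⟨valid_g21A, h21⟩
  · exact ⟨v2, by rw [elt_inv_of_comp valid_g21A v2 a4]; exact hinv _ h21⟩

theorem bs7_tab : (TabM24 b21P ∧ Canon b21P) ∧ (TabM24 s7P ∧ Canon s7P) := by decide +kernel

theorem L7_eq : L7 = (List.range 7).flatMap fun i => (List.range 3).flatMap fun j =>
    (List.range 2).map fun k => compP (powP g7AP i) (compP (powP b21P j) (powP s7P k)) := by
  decide +kernel

theorem L7_valid : ∀ p ∈ L7, Valid p := by
  have vb : Valid b21P := valid_of_tab bs7_tab.1.1 bs7_tab.1.2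
  have vs : Valid s7P := valid_of_tab bs7_tab.2.1 bs7_tab.2.2
  intro p hp
  rw [L7_eq, List.mem_flatMap] at hp
  obtain ⟨i, _, hp⟩ := hp
  rw [List.mem_flatMap] at hp
  obtain ⟨j, _, hp⟩ := hp
  rw [List.mem_map] at hp
  obtain ⟨k, _, rfl⟩ := hp
  exact valid_comp (valid_powP valid_g7A i) (valid_comp (valid_powP vb j) (valid_powP vs k))

theorem L7_comm : ∀ p ∈ L7, compP p g7AP = compP g7AP p := by decide +kernel

theorem L7_nodup : L7.Nodup := by decide +kernel

theorem L7_len : L7.length = 42 := by decide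

theorem cover7 (g : ↥M24) (hc : g * r7 = r7 * g) : ∃ p ∈ L7, Rep g.1 p := by
  classical
  have hc' : g.1 * n7x = n7x * g.1 := by
    rw [r7_eq] at hc
    exact congrArg Subtype.val hc
  have hnd' : (L7.map fun p => (elt p).1).Nodup := by
    apply List.Nodup.map_on _ L7_nodup
    intro p hp q hq h
    exact elt_injOn (L7_valid p hp) (L7_valid q hq) (Subtype.ext h)
  have hsub : (((L7.map fun p => (elt p).1).toFinset : Finset (Equiv.Perm GolayPt)) :
      Set (Equiv.Perm GolayPt)) ⊆ (centM24 n7x : Set (Equiv.Perm GolayPt)) := by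
    intro x hx
    simp only [Finset.mem_coe, List.mem_toFinset, List.mem_map] at hx
    obtain ⟨p, hp, rfl⟩ := hx
    refine ⟨(elt p).2, ?_⟩
    have h1 : elt p * r7 = r7 * elt p := by
      rw [show r7 = elt g7AP from rfl, ← elt_comp (L7_valid p hp) valid_g7A,
        ← elt_comp valid_g7A (L7_valid p hp), L7_comm p hp]
    rw [r7_eq] at h1
    exact congrArg Subtype.val h1
  have hcard : (centM24 n7x : Set (Equiv.Perm GolayPt)).ncard ≤
      (((L7.map fun p => (elt p).1).toFinset : Finset (Equiv.Perm GolayPt)) :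
        Set (Equiv.Perm GolayPt)).ncard := by
    rw [Set.ncard_coe_finset, List.toFinset_card_of_nodup hnd', List.length_map, L7_len,
      ← _root_.Nat.card_coe_set_eq]
    exact le_of_eq card_cent_n7
  have heq := Set.eq_of_subset_of_ncard_le hsub hcard (Set.toFinite _)
  have hg : g.1 ∈ (centM24 n7x : Set (Equiv.Perm GolayPt)) := ⟨g.2, hc'⟩
  rw [← heq] at hg
  simp only [Finset.mem_coe, List.mem_toFinset, List.mem_map] at hg
  obtain ⟨p, hp, he⟩ := hg
  refine ⟨p, hp, ?_⟩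
  rw [← he]
  exact elt_rep (L7_valid p hp)

theorem L7_ok : ∀ p ∈ L7, ClsOK 42 21 KT7 p := by decide +kernel

theorem case7 (P : ↥M24 → Prop) (hconj : ∀ c g, P g → P (c * g * c⁻¹))
    (hinv : ∀ g, P g → P g⁻¹) (h7 : P r7) (h21 : P r21) (g : ↥M24) (hodd : ¬ 2 ∣ orderOf g)
    (h : 7 ∣ orderOf g) : P g := by
  haveI : Fact (Nat.Prime 7) := ⟨by norm_num⟩
  obtain ⟨c, hc⟩ := exists_conj_commute (r := 7) (by rw [card_M24'']; norm_num) r7 orderOf_r7 g h
  have ho : orderOf (c⁻¹ * g * c) = orderOf g := orderOf_conj_inv c g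
  obtain ⟨p, hp, hrep⟩ := cover7 _ hc.eq
  have hP : P (c⁻¹ * g * c) :=
    cls_of_ok P hconj 42 21 1 7 (by norm_num) KT7 T7 KT7_valid (T7_ok P hinv h7 h21)
      (by norm_num) (by norm_num) _ (by rw [ho]; exact hodd) (by rw [ho]; exact h) p hrep
      (L7_ok p hp)
  have hg : g = c * (c⁻¹ * g * c) * c⁻¹ := by group
  rw [hg]
  exact hconj _ _ hP

end Cfsg.Agent.Lib.Helper24.M24Blk
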