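import Mathlib
import Cfsg.Agent.Lib.Helper24.M24Blk.Cover3
import Cfsg.Agent.Lib.Helper24.M24Blk.Cover23
import Cfsg.Agent.Lib.Helper24.M24Blk.Cover57
import Cfsg.Agent.Lib.Helper24.M24Blk.ClsAll
import Cfsg.Agent.Lib.Helper20.OneBlock

/-!
# `M₂₄` has one 2-block, given the local counts in the octad stabilizer (helper24)

Every nontrivial element of odd order of `M₂₄` is conjugate to one of eight representatives or its
inverse; the one-block count of each representative is even once the local counts of the data lists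
`D3A, …, D23A` are known.
-/

set_option autoImplicit false

namespace Cfsg.Agent.Lib.Helper24.M24Blk

open Cfsg MulAction Cfsg.Agent.Lib.Helper28 Cfsg.Agent.Lib.Helper13.PackPerm
  Cfsg.Agent.Lib.Helper13.M22Enum Cfsg.Agent.Lib.Helper20.OneBlock

/-- every nontrivial element of odd order is conjugate to a representative or its inverse -/
theorem cover_all (P : ↥M24 → Prop) (hconj : ∀ c g, P g → P (c * g * c⁻¹))
    (hinv : ∀ g, P g → P g⁻¹) (h3A : P r3A) (h3B : P r3B) (h5 : P r5) (h7 : P r7) (h11 : P r11)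
    (h15 : P r15) (h21 : P r21) (h23 : P r23) :
    ∀ g : ↥M24, g ≠ 1 → ¬ 2 ∣ orderOf g → P g := by
  intro g hg1 hodd
  by_cases d23 : 23 ∣ orderOf g
  · exact case23 P hconj hinv h23 g d23
  by_cases d11 : 11 ∣ orderOf g
  · exact case11 P hconj hinv h11 g d11
  by_cases d7 : 7 ∣ orderOf g
  · exact case7 P hconj hinv h7 h21 g hodd d7
  by_cases d5 : 5 ∣ orderOf g
  · exact case5 P hconj hinv h5 h15 g hodd d5
  have hdvd : orderOf g ∣ 2 ^ 10 * 3 ^ 3 * 5 * 7 * 11 * 23 := by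
    have h := orderOf_dvd_natCard g
    rw [card_M24''] at h
    exact h
  have q23 : Nat.Coprime (orderOf g) 23 :=
    (Nat.Coprime.symm ((Nat.Prime.coprime_iff_not_dvd (by norm_num)).mpr d23))
  have q11 : Nat.Coprime (orderOf g) 11 :=
    (Nat.Coprime.symm ((Nat.Prime.coprime_iff_not_dvd (by norm_num)).mpr d11))
  have q7 : Nat.Coprime (orderOf g) 7 :=
    (Nat.Coprime.symm ((Nat.Prime.coprime_iff_not_dvd (by norm_num)).mpr d7))
  have q5 : Nat.Coprime (orderOf g) 5 :=
    (Nat.Coprime.symm ((Nat.Prime.coprime_iff_not_dvd (by norm_num)).mpr d5))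
  have q2 : Nat.Coprime (orderOf g) (2 ^ 10) :=
    Nat.Coprime.pow_right 10
      (Nat.Coprime.symm ((Nat.Prime.coprime_iff_not_dvd Nat.prime_two).mpr hodd))
  have e1 := q23.dvd_of_dvd_mul_right hdvd
  have e2 := q11.dvd_of_dvd_mul_right e1
  have e3 := q7.dvd_of_dvd_mul_right e2
  have e4 := q5.dvd_of_dvd_mul_right e3
  have e5 : orderOf g ∣ 3 ^ 3 := q2.dvd_of_dvd_mul_left e4
  obtain ⟨k, -, hk⟩ := (Nat.dvd_prime_pow Nat.prime_three).mp e5
  exact case3 P hconj h3A h3B g hg1 ⟨k, hk⟩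

/-- the local counts of a data list hold -/
def CountsHold (D : List (ℕ × ℕ × ℕ)) : Prop :=
  ∀ d ∈ D, ∀ γ κ : Equiv.Perm GolayPt, γ ∈ M24 → Rep γ d.1 → Rep κ d.2.1 → octCnt γ κ = d.2.2

/-- the divisibility hypothesis of the one-block criterion from the local counts -/
theorem dvd_of_counts (c3A : CountsHold D3A) (c3B : CountsHold D3B) (c5A : CountsHold D5A)
    (c7A : CountsHold D7A) (c11A : CountsHold D11A) (c15A : CountsHold D15A)
    (c21A : CountsHold D21A) (c23A : CountsHold D23A) :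
    ∀ g : ↥M24, g ≠ 1 → ¬ 2 ∣ orderOf g →
      2 ∣ Nat.card {xy : ↥M24 × ↥M24 // (∃ k : ℕ, orderOf xy.1 = 2 ^ k) ∧ ¬ 2 ∣ orderOf xy.2 ∧
          xy.1 * xy.2 = g} := by
  intro g hg1 hodd
  rw [card_pairs_eq]
  set P : ↥M24 → Prop := fun g => 2 ∣ Nat.card {x : ↥M24 // Good 2 g x} with hP
  have hconj : ∀ c g, P g → P (c * g * c⁻¹) := fun c g h => by
    simp only [hP] at h ⊢; rw [card_good_conj]; exact h
  have hinv : ∀ g, P g → P g⁻¹ := fun g h => by
    simp only [hP] at h ⊢; rw [card_good_inv]; exact h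
  exact cover_all P hconj hinv (even_iff_two_dvd.mp (even_3A c3A))
    (even_iff_two_dvd.mp (even_3B c3B)) (even_iff_two_dvd.mp (even_5A c5A))
    (even_iff_two_dvd.mp (even_7A c7A)) (even_iff_two_dvd.mp (even_11A c11A))
    (even_iff_two_dvd.mp (even_15A c15A)) (even_iff_two_dvd.mp (even_21A c21A))
    (even_iff_two_dvd.mp (even_23A c23A)) g hg1 hodd

/-- `M₂₄` has exactly one 2-block, given the local counts -/
theorem sameBlock_of_counts (c3A : CountsHold D3A) (c3B : CountsHold D3B) (c5A : CountsHold D5A)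
    (c7A : CountsHold D7A) (c11A : CountsHold D11A) (c15A : CountsHold D15A)
    (c21A : CountsHold D21A) (c23A : CountsHold D23A) (M : Ideal Cfsg.AlgInt)
    (hM : Cfsg.IsPModular 2 M) (χ ψ : Cfsg.IrrCharacter ↥Cfsg.M24) :
    Cfsg.SameBlock M (χ : ↥Cfsg.M24 → ℂ) (ψ : ↥Cfsg.M24 → ℂ) := by
  haveI : Fact (Nat.Prime 2) := ⟨Nat.prime_two⟩
  haveI : Fintype ↥Cfsg.M24 := Fintype.ofFinite _
  exact sameBlock_of_dvd hM (dvd_of_counts c3A c3B c5A c7A c11A c15A c21A c23A) χ ψ

end Cfsg.Agent.Lib.Helper24.M24Blk
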